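import Cfsg.Agent.SPN.K2

/-!
# Standard subgroups of type `Sp_{2k}(2ⁿ)`: transitivity, existence of vectors
-/

set_option autoImplicit false
set_option linter.unusedSectionVars false
set_option linter.unusedVariables false

namespace Cfsg.Lib.SPN

open Subgroup Module Cfsg.Lib.Trans Cfsg.Lib.Gold Cfsg.Lib.Class.Form Cfsg.Lib.Class.FAut
open Cfsg.Lib.UM (tT tE VW RR Fx St QW Cf mp Semi fa Mp cx re Ot kk Mx Fr3)
open Cfsg.Lib.SG2 (Uq Top)
open Cfsg.Lib.Comp (Tw)
open scoped commutatorElement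

section Model
variable {F M : Type*} [Field F] [Finite F] [AddCommGroup M] [Module F M] [FiniteDimensional F M]
  {B : M →ₗ[F] M →ₗ[F] F}

theorem Mo.witt (h : Mo B) {ι : Type*} {x y : ι → M} (hx : LinearIndependent F x)
    (hy : LinearIndependent F y) (hB : ∀ i j, B (y i) (y j) = B (x i) (x j)) :
    ∃ g : sIsom B, ∀ i, lin g (x i) = y i := by
  obtain ⟨g, hg⟩ := h.cls.witt_family hx hy hB
  exact ⟨⟨g, h.cls.mem_sIsom_of_alt h.alt g⟩, hg⟩

theorem Mo.tr1 (h : Mo B) {u w : M} (u0 : u ≠ 0) (w0 : w ≠ 0) : ∃ g : sIsom B, lin g u = w := by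
  obtain ⟨g, hg⟩ := h.witt (x := fun _ : Unit => u) (y := fun _ => w)
    (linearIndependent_unique_iff.2 u0) (linearIndependent_unique_iff.2 w0)
    fun _ _ => (h.alt w).trans (h.alt u).symm
  exact ⟨g, hg ()⟩

theorem Mo.tr2 (h : Mo B) {u w u' w' : M} (k : P2 B u w) (k' : P2 B u' w') :
    ∃ g : sIsom B, lin g u = u' ∧ lin g w = w' := by
  obtain ⟨g, hg⟩ := h.witt k.li k'.li fun i j => by
    fin_cases i <;> fin_cases j <;> simp [h.alt, k.uw, h.swap k.uw, k'.uw, h.swap k'.uw]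
  exact ⟨g, hg 0, hg 1⟩

theorem Mo.tr3 (h : Mo B) {u w x u' w' x' : M} (k : P3 B u w x) (k' : P3 B u' w' x') :
    ∃ g : sIsom B, lin g u = u' ∧ lin g w = w' ∧ lin g x = x' := by
  obtain ⟨g, hg⟩ := h.witt k.li k'.li fun i j => by
    fin_cases i <;> fin_cases j <;> simp [h.alt, k.uw, h.swap k.uw, k'.uw, h.swap k'.uw, k.ux,
      h.swap k.ux, k'.ux, h.swap k'.ux, k.wx, h.swap k.wx, k'.wx, h.swap k'.wx]
  exact ⟨g, hg 0, hg 1, hg 2⟩

theorem K4.li3 (h : Mo B) {w y z : M} (w0 : w ≠ 0) (h1 : B w y = 0) (h2 : B w z = 0)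
    (h3 : B y z ≠ 0) : LinearIndependent F ![w, y, z] := by
  refine Fintype.linearIndependent_iff.2 fun c hc => ?_
  simp only [Fin.sum_univ_three, Matrix.cons_val] at hc
  have a := congrArg (B y) hc
  have b := congrArg (B · z) hc
  simp [h.alt, h.swap h1, h2, h3] at a b
  simp [a, b, w0] at hc
  intro i
  fin_cases i <;> assumption

theorem Mo.trh (h : Mo B) {w y z w' y' z' : M} (w0 : w ≠ 0) (h1 : B w y = 0) (h2 : B w z = 0)
    (h3 : B y z ≠ 0) (w0' : w' ≠ 0) (h1' : B w' y' = 0) (h2' : B w' z' = 0) (e : B y' z' = B y z) :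
    ∃ g : sIsom B, lin g w = w' ∧ lin g y = y' ∧ lin g z = z' := by
  obtain ⟨g, hg⟩ := h.witt (K4.li3 h w0 h1 h2 h3) (K4.li3 h w0' h1' h2' (e ▸ h3)) fun i j => by
    fin_cases i <;> fin_cases j <;> simp [h.alt, h1, h.swap h1, h2, h.swap h2, h1', h.swap h1', h2',
      h.swap h2', e, h.symm z' y', h.symm z y]
  exact ⟨g, hg 0, hg 1, hg 2⟩

theorem K4.li4 (h : Mo B) {w x u y : M} (k : P2 B w x) (h1 : B w u = 0) (h2 : B x u = 0)
    (h3 : B w y = 0) (h4 : B x y = 0) (h5 : B u y ≠ 0) : LinearIndependent F ![w, x, u, y] := by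
  refine Fintype.linearIndependent_iff.2 fun c hc => ?_
  simp only [Fin.sum_univ_four, Matrix.cons_val] at hc
  have a := congrArg (B u) hc
  have b := congrArg (B · y) hc
  simp [h.alt, h.swap h1, h.swap h2, h3, h4, h5] at a b
  simp only [a, b, zero_smul, add_zero] at hc
  obtain ⟨e1, e2⟩ := LinearIndependent.pair_iff.1 k.li _ _ hc
  intro i
  fin_cases i <;> assumption

theorem Mo.tr4 (h : Mo B) {w x u y w' x' u' y' : M} (k : P2 B w x) (h1 : B w u = 0) (h2 : B x u = 0)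
    (h3 : B w y = 0) (h4 : B x y = 0) (h5 : B u y ≠ 0) (k' : P2 B w' x') (h1' : B w' u' = 0)
    (h2' : B x' u' = 0) (h3' : B w' y' = 0) (h4' : B x' y' = 0) (e : B u' y' = B u y) :
    ∃ g : sIsom B, lin g w = w' ∧ lin g x = x' ∧ lin g u = u' ∧ lin g y = y' := by
  obtain ⟨g, hg⟩ := h.witt (K4.li4 h k h1 h2 h3 h4 h5) (K4.li4 h k' h1' h2' h3' h4' (e ▸ h5))
    fun i j => by
      fin_cases i <;> fin_cases j <;> simp [h.alt, h1, h.swap h1, h2, h.swap h2, h3, h.swap h3, h4,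
        h.swap h4, h1', h.swap h1', h2', h.swap h2', h3', h.swap h3', h4', h.swap h4', e,
        h.symm y' u', h.symm y u, k.uw, h.swap k.uw, k'.uw, h.swap k'.uw]
  exact ⟨g, hg 0, hg 1, hg 2, hg 3⟩

theorem Mo.trW (h : Mo B) {W W' : Submodule F M} (hW : Mx B W) (hW' : Mx B W') :
    ∃ g : sIsom B, ∀ x, x ∈ W ↔ lin g x ∈ W' := by
  obtain ⟨g, rfl⟩ := h.cls.exists_map_eq_of_totIso hW.ti hW'.ti (hW.dim.trans hW'.dim.symm)
  exact ⟨⟨g, h.cls.mem_sIsom_of_alt h.alt g⟩, UM.cj_map W ⟨g, h.cls.mem_sIsom_of_alt h.alt g⟩⟩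

theorem Mo.trF (h : Mo B) {W : Submodule F M} (hW : TotIso B W) {x y : M} (hx : x ∈ orth B W)
    (hx' : x ∉ W) (hy : y ∈ orth B W) (hy' : y ∉ W) : ∃ g ∈ Fx B W, lin g x = y := by
  obtain ⟨g, -, h1, h2⟩ := h.cls.exists_step hx' hy' ((h.alt y).trans (h.alt x).symm)
    fun u hu => (h.swap (hy u hu)).trans (h.swap (hx u hu)).symm
  exact (fun _ => ⟨⟨g, h.cls.mem_sIsom_of_alt h.alt g⟩, h1, h2⟩) hW

theorem Mo.dual (h : Mo B) {ι : Type*} {x : ι → M} (hx : LinearIndependent F x) (a : ι → F) :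
    ∃ y, ∀ i, B (x i) y = a i := h.cls.exists_forall_eq' hx a

theorem Mo.dual2 (h : Mo B) {u w : M} (u0 : u ≠ 0) (k : w ∉ F ∙ u) (a b : F) :
    ∃ y, B u y = a ∧ B w y = b :=
  (h.dual (x := ![u, w]) ((LinearIndependent.pair_iff' u0).2 fun c e =>
    k (Submodule.mem_span_singleton.2 ⟨c, e⟩)) ![a, b]).imp fun _ e => ⟨e 0, e 1⟩

theorem Mo.dual3 (h : Mo B) {u w x : M} (u0 : u ≠ 0) (k : w ∉ F ∙ u) (k' : x ∉ l2 F u w)
    (a b c : F) : ∃ y, B u y = a ∧ B w y = b ∧ B x y = c := by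
  obtain ⟨y, h1, h2⟩ := h.dual2 u0 k a b
  obtain ⟨z, h3, h4⟩ := h.cls.exists_orth_of_notMem k'
  have h5 := h.swap (h3 u (Submodule.subset_span (by simp)))
  have h6 := h.swap (h3 w (Submodule.subset_span (by simp)))
  refine ⟨y + ((c - B x y) / B z x) • z, by simp [h1, h5], by simp [h2, h6], ?_⟩
  simp [h.symm x z, h4]

theorem Mo.dualW (h : Mo B) (W : Submodule F M) (l : M → F)
    (h1 : ∀ x ∈ W, ∀ y ∈ W, l (x + y) = l x + l y) (h2 : ∀ (a : F), ∀ x ∈ W, l (a • x) = a * l x) :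
    ∃ p, ∀ x ∈ W, B p x = l x := by
  obtain ⟨φ, hφ⟩ := LinearMap.exists_extend (p := W)
    ⟨⟨fun x => l x, fun x y => h1 _ x.2 _ y.2⟩, fun a x => h2 a _ x.2⟩
  obtain ⟨p, hp⟩ := h.cls.exists_eq_dual φ
  exact ⟨p, fun x hx => (hp x).trans (LinearMap.congr_fun hφ ⟨x, hx⟩)⟩

theorem Mo.mem_span (h : Mo B) {s : Set M} {p : M} (k : ∀ z, (∀ x ∈ s, B x z = 0) → B p z = 0) :
    p ∈ Submodule.span F s :=
  (h.orth_orth _).le fun z hz => h.swap (k z (mem_orth_span.1 hz))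

theorem Mo.mem_span' (h : Mo B) {s : Set M} {p : M} {W : Submodule F M} {z₀ : M}
    (h0 : ∀ x ∈ s, B x z₀ = 0) (h1 : z₀ ∉ W)
    (k : ∀ z, (∀ x ∈ s, B x z = 0) → z ∉ W → B p z = 0) : p ∈ Submodule.span F s :=
  h.mem_span fun z hz => by
    by_cases c : z ∈ W
    · simpa [k z₀ h0 h1] using k (z + z₀) (fun x hx => by simp [hz x hx, h0 x hx])
        fun e => h1 ((W.add_mem_iff_right c).1 e)
    · exact k z hz c

theorem Mo.exists_ne (h : Mo B) : ∃ u : M, u ≠ 0 := by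
  have := h.six
  have : Nontrivial M := nontrivial_of_finrank_pos (R := F) (by omega)
  exact _root_.exists_ne 0

/-- A vector orthogonal to `W` outside `U`. -/
theorem K4.out (h : Mo B) (W U : Submodule F M) (k : finrank F W + finrank F U < finrank F M) :
    ∃ x ∈ orth B W, x ∉ U := SetLike.not_le_iff_exists.1 fun e => by
  have := Submodule.finrank_mono e
  have := h.cls.finrank_orth W
  omega

theorem K4.rk (l : List M) : finrank F (Submodule.span F {x | x ∈ l}) ≤ l.length := by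
  classical
  rw [← List.coe_toFinset]
  exact (finrank_span_finset_le_card _).trans l.toFinset_card_le

theorem K4.rk1 (u : M) : finrank F (F ∙ u) ≤ 1 := by
  have := K4.rk (F := F) [u]
  rwa [show {x | x ∈ [u]} = ({u} : Set M) by ext; simp] at this

theorem K4.rk2 (u w : M) : finrank F (l2 F u w) ≤ 2 := by
  have := K4.rk (F := F) [u, w]
  rwa [show {x | x ∈ [u, w]} = ({u, w} : Set M) by ext; simp] at this

theorem K4.rk3 (u w x : M) : finrank F (Submodule.span F {u, w, x}) ≤ 3 := by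
  have := K4.rk (F := F) [u, w, x]
  rwa [show {y | y ∈ [u, w, x]} = ({u, w, x} : Set M) by ext; simp] at this

theorem K4.rk4 (u w x y : M) : finrank F (Submodule.span F {u, w, x, y}) ≤ 4 := by
  have := K4.rk (F := F) [u, w, x, y]
  rwa [show {z | z ∈ [u, w, x, y]} = ({u, w, x, y} : Set M) by ext; simp] at this

theorem Mo.out (h : Mo B) {W : Submodule F M} (hW : TotIso B W) (h2 : finrank F W < kk F M) :
    ∃ x ∈ orth B W, x ∉ W := (fun _ => K4.out h W W (by rw [h.rank_eq]; omega)) hW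

theorem Mo.out2 (h : Mo B) {u w : M} (k : B u w = 0) :
    ∃ x, B u x = 0 ∧ B w x = 0 ∧ x ∉ l2 F u w := by
  obtain ⟨x, h1, h2⟩ := h.out (h.ti2 k) (by have := K4.rk2 (F := F) u w; have := h.three_le; omega)
  exact ⟨x, (h.mem_orth2.1 h1).1, (h.mem_orth2.1 h1).2, h2⟩

theorem Mo.ext2 (h : Mo B) {u : M} (u0 : u ≠ 0) : ∃ w, P2 B u w := by
  obtain ⟨x, h1, h2⟩ := h.out (h.ti1 u) (by have := K4.rk1 (F := F) u; have := h.three_le; omega)
  exact ⟨x, P2.iff.2 ⟨h.mem_orth1.1 h1, u0, h2⟩⟩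

theorem Mo.ext3 (h : Mo B) {u w : M} (k : P2 B u w) : ∃ x, P3 B u w x :=
  (h.out2 k.uw).imp fun _ e => P3.iff.2 ⟨k, e⟩

theorem Mo.four (h : Mo B) (h8 : 8 ≤ finrank F M) {u x y : M} (k : P3 B u x y) :
    ∃ z, B u z = 0 ∧ B x z = 0 ∧ B y z = 0 ∧ z ∉ Submodule.span F {u, x, y} := by
  obtain ⟨z, h1, h2⟩ := h.out (k.toO3.ti h)
    (by have := K4.rk3 (F := F) u x y; have := h.rank_eq; omega)
  have := mem_orth_span.1 h1
  exact ⟨z, this u (by simp), this x (by simp), this y (by simp), h2⟩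

theorem Mo.out3 (h : Mo B) {u : M} (u0 : u ≠ 0) {x y : M} (h1 : B u x = 0) (h2 : B u y = 0) :
    ∃ z, B u z = 0 ∧ B x z = 0 ∧ B y z = 0 ∧ z ∉ l2 F u x ∧ z ∉ l2 F u y := by
  have six := h.six
  by_cases c : B x y = 0
  swap
  · obtain ⟨z, a, b⟩ := K4.out h (Submodule.span F {u, x, y}) (F ∙ u)
      (by have := K4.rk3 (F := F) u x y; have := K4.rk1 (F := F) u; omega)
    have a := mem_orth_span.1 a
    refine ⟨z, a u (by simp), a x (by simp), a y (by simp), fun e => b ?_, fun e => b ?_⟩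
    all_goals obtain ⟨r, s, rfl⟩ := Submodule.mem_span_pair.1 e
    · have := a y (by simp)
      simp [h.swap h2, h.symm y x, c] at this
      simp [this, Submodule.smul_mem]
    · have := a x (by simp)
      simp [h.swap h1, c] at this
      simp [this, Submodule.smul_mem]
  have le : ∀ {x y : M}, y ∈ l2 F u x → l2 F u y ≤ l2 F u x := fun e => Submodule.span_le.2
    (Set.pair_subset (Submodule.subset_span (by simp)) e)
  have one : ∀ {x y : M}, B u x = 0 → y ∈ l2 F u x →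
      ∃ z, B u z = 0 ∧ B x z = 0 ∧ B y z = 0 ∧ z ∉ l2 F u x ∧ z ∉ l2 F u y := fun h1 e => by
    obtain ⟨z, a1, a2, a3⟩ := h.out2 h1
    exact ⟨z, a1, a2, h.mem_orth2.2 ⟨a1, a2⟩ _ e, a3, fun f => a3 (le e f)⟩
  by_cases c1 : y ∈ l2 F u x
  · exact one h1 c1
  by_cases c2 : x ∈ l2 F u y
  · obtain ⟨z, a1, a2, a3, a4, a5⟩ := one h2 c2
    exact ⟨z, a1, a3, a2, a5, a4⟩
  exact (fun _ => ⟨x + y, by simp [h1, h2], by simp [h.alt, c], by simp [h.alt, h.swap c],
    fun e => c1 ((Submodule.add_mem_iff_right _ (Submodule.subset_span (by simp))).1 e),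
    fun e => c2 ((Submodule.add_mem_iff_left _ (Submodule.subset_span (by simp))).1 e)⟩) u0

theorem Mo.hyp2 (h : Mo B) {u w : M} (k : B u w = 0) {s : F} (hs : s ≠ 0) :
    ∃ y z, B u y = 0 ∧ B w y = 0 ∧ B u z = 0 ∧ B w z = 0 ∧ B y z = s ∧
      y ∉ l2 F u w ∧ z ∉ l2 F u w ∧ y + z ∉ l2 F u w := by
  obtain ⟨y, a1, a2, a3⟩ := h.out2 k
  obtain ⟨z, b1, b2⟩ := h.cls.exists_orth_of_notMem a3
  have b3 := h.swap (b1 u (Submodule.subset_span (by simp)))
  have b4 := h.swap (b1 w (Submodule.subset_span (by simp)))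
  have e : B y ((s / B z y) • z) = s := by simp [h.symm y z, b2]
  have o := fun x hx => h.swap (h.mem_orth2.2 ⟨a1, a2⟩ x hx)
  exact ⟨y, (s / B z y) • z, a1, a2, by simp [b3], by simp [b4], e, a3, fun f => hs (e ▸ o _ f),
    fun f => hs (by simpa [h.alt, e] using o _ f)⟩

/-- a criterion for `P3` -/
theorem K4.p3 {u x y : M} (h1 : B u x = 0) (h2 : B u y = 0) (h3 : B x y = 0)
    (k : ∀ a b c : F, a • u + b • x + c • y = 0 → a = 0 ∧ b = 0 ∧ c = 0) : P3 B u x y :=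
  ⟨⟨h1, h2, h3⟩, Fintype.linearIndependent_iff.2 fun c hc => by
    obtain ⟨a1, a2, a3⟩ := k (c 0) (c 1) (c 2) (by simpa [Fin.sum_univ_three] using hc)
    intro i
    fin_cases i <;> assumption⟩

theorem K4.li {u x y : M} (k : P3 B u x y) (a b c : F) (e : a • u + b • x + c • y = 0) :
    a = 0 ∧ b = 0 ∧ c = 0 := by
  have := Fintype.linearIndependent_iff.1 k.li ![a, b, c] (by simpa [Fin.sum_univ_three] using e)
  exact ⟨this 0, this 1, this 2⟩

theorem K4.li' {u x y z : M} (k : P3 B u x y) (hz : z ∉ Submodule.span F {u, x, y}) (a b c d : F)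
    (e : a • u + b • x + c • y + d • z = 0) : a = 0 ∧ b = 0 ∧ c = 0 ∧ d = 0 := by
  obtain rfl : d = 0 := by
    by_contra d0
    exact hz ((Submodule.smul_mem_iff _ d0).1 (Submodule.mem_span_triple.2
      ⟨-a, -b, -c, by linear_combination (norm := module) -e⟩))
  obtain ⟨a1, a2, a3⟩ := K4.li k a b c (by simpa using e)
  exact ⟨a1, a2, a3, rfl⟩

theorem Mo.third (h : Mo B) {u x y : M} (k : P3 B u x y) : ∃ z, B u z = 0 ∧ B x z = 0 ∧ B y z = 0 ∧
    P3 B u (x + y) z ∧ P3 B u y z ∧ P3 B u x (y + z) ∧ x + z ∉ F ∙ u := by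
  have n := fun z (e : x + z ∈ F ∙ u) => Submodule.mem_span_singleton.1 e
  rcases h.q_cases with ⟨t, t0, t1⟩ | ⟨h8, -⟩
  · have a1 : B u (t • x) = 0 := by simp [k.uw]
    have a2 : B x (t • x) = 0 := by simp [h.alt]
    have a3 : B y (t • x) = 0 := by simp [h.swap k.wx]
    refine ⟨t • x, a1, a2, a3, K4.p3 (by simp [k.uw, k.ux]) a1 (by rw [map_add, LinearMap.add_apply, a2, a3, add_zero])
      fun a b c e => ?_, K4.p3 k.ux a1 a3 fun a b c e => ?_,
      K4.p3 k.uw (by rw [map_add, k.ux, a1, add_zero]) (by rw [map_add, k.wx, a2, add_zero])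
        fun a b c e => ?_, fun e => ?_⟩
    · have := K4.li k a (b + c * t) b (by rw [← e]; module)
      grind
    · have := K4.li k a (c * t) b (by rw [← e]; module)
      grind
    · have := K4.li k a (b + c * t) c (by rw [← e]; module)
      grind
    · obtain ⟨a, ha⟩ := n _ e
      have := (K4.li k a (-(1 + t)) 0 (by rw [ha]; module)).2.1
      exact t1 (by linear_combination -this - h.two + t * h.two - t * h.two)
  · obtain ⟨z, a1, a2, a3, a4⟩ := h.four h8 k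
    refine ⟨z, a1, a2, a3, K4.p3 (by simp [k.uw, k.ux]) a1 (by rw [map_add, LinearMap.add_apply, a2, a3, add_zero])
      fun a b c e => ?_, K4.p3 k.ux a1 a3 fun a b c e => ?_,
      K4.p3 k.uw (by rw [map_add, k.ux, a1, add_zero]) (by rw [map_add, k.wx, a2, add_zero])
        fun a b c e => ?_, fun e => ?_⟩
    · have := K4.li' k a4 a b b c (by rw [← e]; module)
      grind
    · have := K4.li' k a4 a 0 b c (by rw [← e]; module)
      grind
    · have := K4.li' k a4 a b c c (by rw [← e]; module)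
      grind
    · obtain ⟨a, ha⟩ := n _ e
      simpa using (K4.li' k a4 a (-1) 0 (-1) (by rw [ha]; module)).2.1

theorem Mo.third' (h : Mo B) {u x y : M} (k : P3 B u x y) : ∃ z, B u z = 0 ∧ B x z = 0 ∧
    B y z = 0 ∧ P3 B u x z ∧ P3 B u x (y + z) := by
  rcases h.q_cases with ⟨t, t0, t1⟩ | ⟨h8, -⟩
  · have a1 : B u (t • y) = 0 := by simp [k.ux]
    have a2 : B x (t • y) = 0 := by simp [k.wx]
    have t2 : 1 + t ≠ 0 := fun e => t1 (by linear_combination e - h.two)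
    refine ⟨t • y, a1, a2, by simp [h.alt], K4.p3 k.uw a1 a2 fun a b c e => ?_,
      K4.p3 k.uw (by rw [map_add, k.ux, a1, add_zero]) (by rw [map_add, k.wx, a2, add_zero])
        fun a b c e => ?_⟩
    · have := K4.li k a b (c * t) (by rw [← e]; module)
      grind
    · obtain ⟨b1, b2, b3⟩ := K4.li k a b (c * (1 + t)) (by rw [← e]; module)
      exact ⟨b1, b2, (mul_eq_zero.1 b3).resolve_right t2⟩
  · obtain ⟨z, a1, a2, a3, a4⟩ := h.four h8 k
    refine ⟨z, a1, a2, a3, K4.p3 k.uw a1 a2 fun a b c e => ?_,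
      K4.p3 k.uw (by rw [map_add, k.ux, a1, add_zero]) (by rw [map_add, k.wx, a2, add_zero])
        fun a b c e => ?_⟩
    · have := K4.li' k a4 a b 0 c (by rw [← e]; module)
      grind
    · have := K4.li' k a4 a b c c (by rw [← e]; module)
      grind

theorem Mo.third4 (h : Mo B) {w x u y : M} (k : P2 B w x) (h1 : B w u = 0) (h2 : B x u = 0)
    (h3 : B w y = 0) (h4 : B x y = 0) : ∃ z, B w z = 0 ∧ B x z = 0 ∧ B u z = 0 ∧ B y z = 0 ∧
      P2 B w z ∧ P2 B w (x + z) := by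
  rcases h.q_cases with ⟨t, t0, t1⟩ | ⟨h8, -⟩
  · refine ⟨t • x, by simp [k.uw], by simp [h.alt], by simp [h.swap h2], by simp [h.swap h4],
      by simpa using k.smul one_ne_zero t0, ?_⟩
    simpa [add_smul] using k.smul one_ne_zero
      (show 1 + t ≠ 0 from fun e => t1 (by linear_combination e - h.two))
  · obtain ⟨z, a, b⟩ := K4.out h (Submodule.span F {w, x, u, y}) (l2 F w x)
      (by have := K4.rk4 (F := F) w x u y; have := K4.rk2 (F := F) w x; omega)
    have a := mem_orth_span.1 a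
    have := (P3.iff.2 ⟨k, a w (by simp), a x (by simp), b⟩).p2 h
    exact ⟨z, a w (by simp), a x (by simp), a u (by simp), a y (by simp), this.2.1, this.2.2.2⟩

theorem K4.ti_sup (h : Mo B) {W : Submodule F M} (hW : TotIso B W) {x : M} (hx : x ∈ orth B W) :
    TotIso B (W ⊔ F ∙ x) := fun u hu v hv => by
  obtain ⟨w, hw, _, hy, rfl⟩ := Submodule.mem_sup.1 hu
  obtain ⟨s, rfl⟩ := Submodule.mem_span_singleton.1 hy
  obtain ⟨w', hw', _, hx', rfl⟩ := Submodule.mem_sup.1 hv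
  obtain ⟨s', rfl⟩ := Submodule.mem_span_singleton.1 hx'
  simp [hW w hw w' hw', hx w hw, h.swap (hx w' hw'), h.alt]

/-- Downward induction on totally isotropic subspaces. -/
theorem K4.ind (h : Mo B) {P : Submodule F M → Prop} (h1 : ∀ W, Mx B W → P W)
    (h2 : ∀ W, TotIso B W → ∀ x ∈ orth B W, x ∉ W → P (W ⊔ F ∙ x) → P W) {W : Submodule F M}
    (hW : TotIso B W) : P W := by
  induction W using WellFoundedGT.induction with
  | _ W ih =>
  by_cases c : orth B W ≤ W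
  · exact h1 W (h.mx_iff.2 (le_antisymm c hW.le_orth))
  obtain ⟨x, a, b⟩ := SetLike.not_le_iff_exists.1 c
  exact h2 W hW x a b (ih _ (lt_of_le_of_ne le_sup_left fun e => b (e.ge (Submodule.mem_sup_right
    (Submodule.mem_span_singleton_self x)))) (K4.ti_sup h hW a))

theorem Mo.le_Mx (h : Mo B) {W : Submodule F M} (hW : TotIso B W) : ∃ W', Mx B W' ∧ W ≤ W' :=
  K4.ind h (P := fun W => ∃ W', Mx B W' ∧ W ≤ W') (fun W k => ⟨W, k, le_rfl⟩)
    (fun _ _ _ _ _ ⟨W', a, b⟩ => ⟨W', a, le_sup_left.trans b⟩) hW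

theorem Mo.inv (h : Mo B) {g : sIsom B} (e : g * g = 1) : ∃ W, Mx B W ∧ g ∈ VW B W :=
  (h.le_Mx (h.Im_ti e)).imp fun _ k => ⟨k.1, Im_le.1 k.2⟩

theorem K4.ext (h : Mo B) {u z : M} (e : B u z = 1) {a b : F} (hab : a * b = 1)
    (l : hypU B u z →ₗ[F] hypU B u z) (k : ∀ x y : hypU B u z, B (l x) (l y) = B x y) :
    ∃ g : sIsom B, lin g u = a • u ∧ lin g z = b • z ∧ ∀ x : hypU B u z, lin g x = l x := by
  have e' : B z u = 1 := (h.symm z u).trans e
  let p : M →ₗ[F] hypU B u z := (hproj B (-1) u z).codRestrict _ (h.cls.hproj_mem (h.alt u) (h.alt z) e)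
  have hp : ∀ x, (p x : M) = x - B u x • z + B z x • u := fun x => by
    change hproj B (-1) u z x = _
    rw [hproj_apply]
    module
  let N : M →ₗ[F] M := (a • B z).smulRight u + (b • B u).smulRight z + (hypU B u z).subtype ∘ₗ l ∘ₗ p
  have hN : ∀ x, N x = (a * B z x) • u + (b * B u x) • z + l (p x) := fun x => by simp [N]
  have o := fun y : hypU B u z => mem_hypU.1 y.2
  have hi : ∀ x y, B (N x) (N y) = B x y := fun x y => by
    simp only [hN, map_add, map_smul, LinearMap.add_apply, LinearMap.smul_apply, smul_eq_mul, k, hp,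
      map_sub, LinearMap.sub_apply, h.alt, e, e', (o _).1, (o _).2, h.swap (o _).1, h.swap (o _).2,
      h.symm x u, h.symm x z]
    linear_combination (B z x * B u y + B u x * B z y) * hab
  refine ⟨⟨h.cls.ofLin N hi, h.cls.mem_sIsom_of_alt h.alt _⟩, ?_, ?_, fun x => ?_⟩
  · change N u = _
    rw [hN, show p u = 0 from Subtype.ext (by simp [hp, h.alt, e', h.vadd_self])]
    simp [h.alt, e']
  · change N z = _
    rw [hN, show p z = 0 from Subtype.ext (by simp [hp, h.alt, e])]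
    simp [h.alt, e]
  · change N x = _
    rw [hN, show p x = x from Subtype.ext (by simp [hp, (o x).1, (o x).2])]
    simp [(o x).1, (o x).2]

theorem Mo.tor (h : Mo B) {u z : M} (e : B u z = 1) {a : F} (ha : a ≠ 0) : ∃ g : sIsom B,
    lin g u = a • u ∧ lin g z = a⁻¹ • z ∧ ∀ x, B u x = 0 → B z x = 0 → lin g x = x := by
  obtain ⟨g, h1, h2, h3⟩ := K4.ext h e (mul_inv_cancel₀ ha) LinearMap.id fun _ _ => rfl
  exact ⟨g, h1, h2, fun x a b => h3 ⟨x, mem_hypU.2 ⟨a, b⟩⟩⟩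

theorem Mo.extU (h : Mo B) {u z : M} (e : B u z = 1) (l : hypU B u z ≃ₗ[F] hypU B u z)
    (k : ∀ x y : hypU B u z, B (l x) (l y) = B x y) :
    ∃ g : sIsom B, lin g u = u ∧ lin g z = z ∧ ∀ x : hypU B u z, lin g x = l x := by
  simpa using K4.ext h e (mul_one 1) l.toLinearMap k

theorem Mo.ext_fr (h : Mo B) {e : Fin 3 → M} (he : ∀ i j, B (e i) (e j) = 0)
    (li : LinearIndependent F e) : ∃ f, Fr3 B e f := by
  choose g hg using fun j : Fin 3 => h.dual li fun i => if i = j then 1 else 0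
  have hg' : ∀ i j, B (g j) (e i) = if i = j then 1 else 0 := fun i j => (h.symm _ _).trans (hg j i)
  refine ⟨![g 0, g 1 + B (g 0) (g 1) • e 0, g 2 + B (g 0) (g 2) • e 0 + B (g 1) (g 2) • e 1], he,
    fun i j => ?_, fun i j => ?_⟩ <;> fin_cases i <;> fin_cases j <;>
    simp [hg, hg', he, h.alt, h.add_self, h.symm (g 1) (g 0), h.symm (g 2) (g 0), h.symm (g 2) (g 1)]

end Model

end Cfsg.Lib.SPN
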