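import Cfsg.Agent.SPN.K1
import Cfsg.Agent.SPN.K2
import Cfsg.Agent.SPN.K4

/-!
# The symplectic model: small involutions
-/

set_option autoImplicit false
set_option linter.unusedSectionVars false

namespace Cfsg.Lib.SPN

open Subgroup Module Cfsg.Lib.Trans Cfsg.Lib.Gold Cfsg.Lib.Class.Form Cfsg.Lib.Class.FAut
open Cfsg.Lib.UM (tT tE VW RR Fx St QW Cf mp Semi fa Mp cx re Ot kk Mx Fr3)
open Cfsg.Lib.SG2 (Uq Top)
open Cfsg.Lib.Comp (Tw)
open scoped commutatorElement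

section Model
variable {F M : Type*} [Field F] [Finite F] [AddCommGroup M] [Module F M] [FiniteDimensional F M]
  {B : M →ₗ[F] M →ₗ[F] F}

namespace K3

theorem sm {u w : M} (k : B u w = 0) (l : F) : B u (l • w) = 0 := by simp [k]

theorem m1 (u w : M) : u ∈ l2 F u w := Submodule.subset_span (by simp)
theorem m2 (u w : M) : w ∈ l2 F u w := Submodule.subset_span (by simp)

theorem le1 (u w : M) : (F ∙ u) ≤ l2 F u w := (Submodule.span_singleton_le_iff_mem _ _).2 (m1 u w)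

theorem lin_v2 (h : Mo B) {u w : M} (k : B u w = 0) (c d l : F) (x : M) :
    lin (tT B u c * tT B w d * tE B u (l • w)) x =
      x + (c * B u x + l * B w x) • u + (d * B w x + l * B u x) • w := by
  simp only [lin_mul, h.lin_tT, h.lin_tE (sm k l), map_add, map_smul, LinearMap.smul_apply,
    smul_eq_mul, h.alt, k, h.swap k]
  module

theorem v2_mul (h : Mo B) {u w : M} (k : B u w = 0) (c d l c' d' l' : F) :
    tT B u c * tT B w d * tE B u (l • w) * (tT B u c' * tT B w d' * tE B u (l' • w)) =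
      tT B u (c + c') * tT B w (d + d') * tE B u ((l + l') • w) := lin_ext fun x => by
  rw [lin_mul, lin_v2 h k, lin_v2 h k, lin_v2 h k]
  simp only [map_add, map_smul, smul_eq_mul, h.alt, k, h.swap k]
  module

end K3

open K3

theorem Mo.mem_V2 (h : Mo B) {u w : M} (k : B u w = 0) {v : sIsom B} :
    v ∈ VW B (l2 F u w) ↔ ∃ c d l : F, v = tT B u c * tT B w d * tE B u (l • w) := by
  have key : ∀ v, (∃ c d l : F, v = tT B u c * tT B w d * tE B u (l • w)) →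
      v ∈ VW B (l2 F u w) := by
    rintro _ ⟨c, d, l, rfl⟩
    exact mul_mem (mul_mem (h.tT_mem (m1 u w) c) (h.tT_mem (m2 u w) d))
      (h.tE_mem (sm k l) (m1 u w) (Submodule.smul_mem _ _ (m2 u w)))
  refine ⟨fun hv => ?_, key v⟩
  let H : Subgroup (sIsom B) :=
    { carrier := {v | ∃ c d l : F, v = tT B u c * tT B w d * tE B u (l • w)}
      one_mem' := ⟨0, 0, 0, by simp [h.tT_zero, h.tE_zero]⟩
      mul_mem' := by
        rintro _ _ ⟨c, d, l, rfl⟩ ⟨c', d', l', rfl⟩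
        exact ⟨_, _, _, v2_mul h k c d l c' d' l'⟩
      inv_mem' := fun {v} hv => by
        rwa [inv_eq_of_mul_eq_one_right (h.sq_VW (h.ti2 k) (key v hv))] }
  refine h.gen_VW (h.ti2 k) (H := H) (fun x hx => ?_) hv
  obtain ⟨a, b, rfl⟩ := Submodule.mem_span_pair.1 hx
  refine ⟨a * a, b * b, a * b, lin_ext fun y => ?_⟩
  rw [lin_v2 h k, h.lin_tT]
  simp only [map_add, map_smul, LinearMap.add_apply, LinearMap.smul_apply, smul_eq_mul]
  module

theorem Mo.v2_inj (h : Mo B) {u w : M} (k : P2 B u w) {c d l c' d' l' : F}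
    (e : tT B u c * tT B w d * tE B u (l • w) = tT B u c' * tT B w d' * tE B u (l' • w)) :
    c = c' ∧ d = d' ∧ l = l' := by
  have key : ∀ p q : F, (c - c') * p + (l - l') * q = 0 ∧ (d - d') * q + (l - l') * p = 0 :=
    fun p q => by
      obtain ⟨x, h1, h2⟩ := h.dual2 k.ne k.not_mem p q
      have h3 := lin_v2 h k.uw c d l x
      rw [e, lin_v2 h k.uw, h1, h2] at h3
      exact LinearIndependent.pair_iff.1 k.li _ _ (by linear_combination (norm := module) -h3)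
  have h1 := key 1 0
  have h2 := key 0 1
  exact ⟨by linear_combination h1.1, by linear_combination h2.2, by linear_combination h1.2⟩

theorem Mo.v3_inj (h : Mo B) {u w x : M} (k : P3 B u w x) {c d e l m n : F}
    (k1 : tT B u c * tT B w d * tT B x e * tE B u (l • w) * tE B u (m • x) * tE B w (n • x) = 1) :
    c = 0 ∧ d = 0 ∧ e = 0 ∧ l = 0 ∧ m = 0 ∧ n = 0 := by
  have key : ∀ p q r : F, c * p + l * q + m * r = 0 ∧ d * q + l * p + n * r = 0 ∧
      e * r + m * p + n * q = 0 := fun p q r => by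
    obtain ⟨z, hz⟩ := h.dual k.li ![p, q, r]
    have h1 : B u z = p := hz 0
    have h2 : B w z = q := hz 1
    have h3 : B x z = r := hz 2
    have h4 := congrArg (fun g => lin g z) k1
    simp only [lin_mul, lin_one, h.lin_tT, h.lin_tE (sm k.uw l), h.lin_tE (sm k.ux m),
      h.lin_tE (sm k.wx n), map_add, map_smul, LinearMap.smul_apply, smul_eq_mul, h.alt, k.uw,
      k.ux, k.wx, h.swap k.uw, h.swap k.ux, h.swap k.wx, h1, h2, h3, mul_zero, zero_smul,
      add_zero] at h4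
    have h5 := Fintype.linearIndependent_iff.1 k.li
      ![c * p + l * q + m * r, d * q + l * p + n * r, e * r + m * p + n * q] (by
        simp only [Fin.sum_univ_three, Matrix.cons_val_zero, Matrix.cons_val_one,
          Matrix.cons_val]
        linear_combination (norm := module) h4)
    exact ⟨h5 0, h5 1, h5 2⟩
  have h1 := key 1 0 0
  have h2 := key 0 1 0
  have h3 := key 0 0 1
  exact ⟨by linear_combination h1.1, by linear_combination h2.2.1, by linear_combination h3.2.2,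
    by linear_combination h2.1, by linear_combination h3.1, by linear_combination h3.2.1⟩

namespace K3

/-- The functional `z ↦ B (g z - z) p` is represented by a vector of `ℓ^⊥`. -/
theorem rep (h : Mo B) {u w : M} {g : sIsom B} (hg : g ∈ Fx B (l2 F u w)) (p : M) :
    ∃ x ∈ orth B (l2 F u w), ∀ z, B x z = B (lin g z - z) p := by
  obtain ⟨h1, h2⟩ := mem_Fx2.1 hg
  refine ⟨lin g⁻¹ p - p, h.mem_orth2.2 ⟨?_, ?_⟩, fun z => ?_⟩
  · rw [map_sub, ← lin_left, h1, sub_self]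
  · rw [map_sub, ← lin_left, h2, sub_self]
  · rw [h.symm, map_sub, map_sub, LinearMap.sub_apply, lin_left]

theorem coef (h : Mo B) {u w : M} (k : P2 B u w) : ∃ p q, ∀ m ∈ l2 F u w,
    m = B m p • u + B m q • w := by
  obtain ⟨p, h1, h2⟩ := h.dual2 k.ne k.not_mem 1 0
  obtain ⟨q, h3, h4⟩ := h.dual2 k.ne k.not_mem 0 1
  refine ⟨p, q, fun m hm => ?_⟩
  obtain ⟨a, b, rfl⟩ := Submodule.mem_span_pair.1 hm
  simp [h1, h2, h3, h4]

theorem bv (h : Mo B) {u w : M} (k : P2 B u w) {g : sIsom B} (h1 : g ∈ Fx B (l2 F u w))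
    (h2 : ∀ z ∈ orth B (l2 F u w), lin g z - z ∈ F ∙ u) :
    ∃ x c d, x ∈ orth B (l2 F u w) ∧ g = ee B u x c * tT B w d := by
  obtain ⟨p, hp⟩ := h.exists_eq k.ne 1
  obtain ⟨x, hx, e⟩ := rep h h1 p
  obtain ⟨ux, wx⟩ := h.mem_orth2.1 hx
  have hv : tE B u x * g ∈ VW B (l2 F u w) := by
    rw [h.VW_eq]
    intro z hz
    obtain ⟨a, ha⟩ := Submodule.mem_span_singleton.1 (h2 z hz)
    have h3 : B x z = a := by rw [e, ← ha]; simp [hp]
    have h4 : lin g z = z + a • u := by rw [ha]; abel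
    rw [lin_mul, h4, h.lin_tE ux]
    simp only [map_add, map_smul, smul_eq_mul, h.alt, h.swap ux, h3, (h.mem_orth2.1 hz).1]
    linear_combination (norm := module) h.vadd_self (a • u)
  obtain ⟨c, d, s, hs⟩ := (h.mem_V2 k.uw).1 hv
  have us : B u (x + s • w) = 0 := by simp [ux, k.uw]
  refine ⟨x + s • w, c, d, add_mem hx (Submodule.smul_mem _ _ (h.mem_orth2.2 ⟨k.uw, h.alt w⟩)), ?_⟩
  have h5 : g = tE B u x * (tE B u x * g) := by rw [← mul_assoc, h.tE_sq ux, one_mul]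
  rw [h5, hs]
  refine lin_ext fun z => ?_
  rw [lin_mul, lin_v2 h k.uw, h.lin_tE ux, lin_mul, h.lin_ee us, h.lin_tT]
  simp only [map_add, map_smul, LinearMap.add_apply, LinearMap.smul_apply, smul_eq_mul, h.alt,
    k.uw, h.swap ux, h.swap wx]
  module

theorem bv' (h : Mo B) {u w : M} (k : P2 B u w) {g : sIsom B} (hg : g ∈ BV B u w) :
    g ∈ Fx B (l2 F u w) ∧ ∀ z ∈ orth B (l2 F u w), lin g z - z ∈ F ∙ u := by
  let S : Subgroup (sIsom B) :=
    { carrier := {g | g ∈ Fx B (l2 F u w) ∧ ∀ z ∈ orth B (l2 F u w), lin g z - z ∈ F ∙ u}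
      one_mem' := ⟨one_mem _, fun z _ => by simp⟩
      mul_mem' := fun {a b} ha hb => ⟨mul_mem ha.1 hb.1, fun z hz => by
        have e : lin (a * b) z - z = lin a (lin b z - z) + (lin a z - z) := by
          rw [lin_mul, map_sub]; abel
        rw [e, ha.1 _ (le1 u w (hb.2 z hz))]
        exact add_mem (hb.2 z hz) (ha.2 z hz)⟩
      inv_mem' := fun {a} ha => ⟨inv_mem ha.1, fun z hz => by
        have e : lin a⁻¹ z - z = -lin a⁻¹ (lin a z - z) := by rw [map_sub, lin_inv_lin]; abel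
        rw [e, (inv_mem ha.1 : a⁻¹ ∈ Fx B (l2 F u w)) _ (le1 u w (ha.2 z hz))]
        exact neg_mem (ha.2 z hz)⟩ }
  have key : BV B u w ≤ S := by
    refine sup_le (fun a ha => ⟨ha.2, fun z hz => ha.1.2 z (h.mem_orth1.2 (h.mem_orth2.1 hz).1)⟩)
      fun a ha => ⟨(h.VW_le_QW (h.ti2 k.uw) ha).1, fun z hz => ?_⟩
    rw [h.VW_eq] at ha
    rw [ha z hz, sub_self]
    exact zero_mem _
  exact key hg

theorem bv'' (h : Mo B) {u w : M} (k : P2 B u w) {x : M} (hx : x ∈ orth B (l2 F u w)) (c d : F) :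
    ee B u x c * tT B w d ∈ BV B u w := by
  have hu : u ∈ orth B (l2 F u w) := h.mem_orth2.2 ⟨h.alt u, h.swap k.uw⟩
  have ux := (h.mem_orth2.1 hx).1
  exact mul_mem (mem_sup_left ⟨h.ee_mem_Q ux c, mul_mem (h.tE_mem_Fx ux hu hx) (h.tT_mem_Fx hu c)⟩)
    (mem_sup_right (h.tT_mem (m2 u w) d))

end K3

theorem Mo.Q_l2 (h : Mo B) {u w : M} (k : P2 B u w) {g : sIsom B} (hg : g ∈ QW B (l2 F u w)) :
    ∃ x y c d, x ∈ orth B (l2 F u w) ∧ y ∈ orth B (l2 F u w) ∧ g = ee B w y d * ee B u x c := by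
  obtain ⟨p, q, e⟩ := coef h k
  obtain ⟨x, hx, ex⟩ := rep h (UM.QW_le_Fx hg) p
  obtain ⟨y, hy, ey⟩ := rep h (UM.QW_le_Fx hg) q
  obtain ⟨ux, wx⟩ := h.mem_orth2.1 hx
  obtain ⟨uy, wy⟩ := h.mem_orth2.1 hy
  have hv : tE B w y * g * tE B u x ∈ VW B (l2 F u w) := by
    rw [h.VW_eq]
    intro z hz
    obtain ⟨uz, wz⟩ := h.mem_orth2.1 hz
    have h3 := e _ (hg.2 z hz)
    rw [← ex, ← ey] at h3
    have h4 : lin g z = z + (B x z • u + B y z • w) := by rw [← h3]; abel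
    rw [lin_mul, lin_mul, h.lin_tE ux, uz, zero_smul, add_zero, map_add, map_smul, h4,
      hg.1 u (m1 u w), h.lin_tE wy]
    simp only [map_add, map_smul, smul_eq_mul, h.alt, h.swap uy, h.swap wy, h.swap k.uw, wz]
    linear_combination (norm := module) h.vadd_self (B x z • u) + h.vadd_self (B y z • w)
  obtain ⟨c, d, s, hs⟩ := (h.mem_V2 k.uw).1 hv
  have us : B u (x + s • w) = 0 := by simp [ux, k.uw]
  refine ⟨x + s • w, y, c, d,
    add_mem hx (Submodule.smul_mem _ _ (h.mem_orth2.2 ⟨k.uw, h.alt w⟩)), hy, ?_⟩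
  have h5 : g = tE B w y * (tE B w y * g * tE B u x * tE B u x) := by
    rw [mul_assoc _ _ (tE B u x), h.tE_sq ux, mul_one, ← mul_assoc, h.tE_sq wy, one_mul]
  rw [h5, hs, ee, mul_assoc (tE B w y)]
  congr 1
  refine lin_ext fun z => ?_
  rw [lin_mul, lin_v2 h k.uw, h.lin_tE ux, lin_mul, h.lin_ee us, h.lin_tT]
  simp only [map_add, map_smul, LinearMap.add_apply, LinearMap.smul_apply, smul_eq_mul, h.alt,
    ux, wx, h.swap k.uw]
  module

theorem Mo.mem_BV (h : Mo B) {u w : M} (k : P2 B u w) {g : sIsom B} :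
    g ∈ BV B u w ↔ ∃ x c d, x ∈ orth B (l2 F u w) ∧ g = ee B u x c * tT B w d :=
  ⟨fun hg => bv h k (bv' h k hg).1 (bv' h k hg).2, fun ⟨_, c, d, hx, e⟩ => e ▸ bv'' h k hx c d⟩

theorem Mo.mem_BV' (h : Mo B) {u w : M} (k : P2 B u w) {g : sIsom B} : g ∈ BV B u w ↔
    g ∈ Fx B (l2 F u w) ∧ ∀ z ∈ orth B (l2 F u w), lin g z - z ∈ F ∙ u :=
  ⟨bv' h k, fun hg => (h.mem_BV k).2 (bv h k hg.1 hg.2)⟩

theorem Mo.small (h : Mo B) {v : sIsom B} (e : v * v = 1) (v1 : v ≠ 1) (h2 : finrank F (Im v) ≤ 2) :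
    ∃ u, u ≠ 0 ∧ v ∈ Qu B u := by
  obtain ⟨u, w, k, hle⟩ : ∃ u w, P2 B u w ∧ Im v ≤ l2 F u w := by
    obtain ⟨u, hu, u0⟩ := Submodule.exists_mem_ne_zero_of_ne_bot (mt Im_eq_bot.1 v1)
    by_cases h3 : Im v ≤ F ∙ u
    · obtain ⟨w, k⟩ := h.ext2 u0
      exact ⟨u, w, k, h3.trans (le1 u w)⟩
    · obtain ⟨w, hw, h4⟩ := SetLike.not_le_iff_exists.1 h3
      have k : P2 B u w := P2.iff.2 ⟨h.Im_ti e u hu w hw, u0, h4⟩
      refine ⟨u, w, k, (Submodule.eq_of_le_of_finrank_le ?_ (by rw [k.rank]; exact h2)).ge⟩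
      exact Submodule.span_le.2 (by rintro _ (rfl | rfl) <;> assumption)
  obtain ⟨c, d, s, rfl⟩ := (h.mem_V2 k.uw).1 (Im_le.1 hle)
  obtain ⟨a, rfl⟩ := h.exists_sq c
  obtain ⟨b, rfl⟩ := h.exists_sq d
  by_cases a0 : a = 0
  · refine ⟨w, k.ne', ?_⟩
    have h3 : B w (s • u) = 0 := sm (h.swap k.uw) s
    rw [a0, mul_zero, h.tT_zero, one_mul, ← h.tE_smul k.uw, ← h.tE_comm h3]
    exact mul_mem (h.tT_mem_Q _ _) (h.tE_mem_Q h3)
  obtain ⟨r, rfl⟩ : ∃ r, s = a * r + a * b := ⟨a⁻¹ * s - b, by field_simp; ring⟩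
  have h3 : B (a • u + b • w) (r • w) = 0 := by simp [k.uw, h.alt]
  refine ⟨a • u + b • w, fun h4 => a0 (LinearIndependent.pair_iff.1 k.li _ _ h4).1, ?_⟩
  convert h.ee_mem_Q h3 1 using 1
  refine lin_ext fun z => ?_
  rw [lin_v2 h k.uw, h.lin_ee h3]
  simp only [map_add, map_smul, LinearMap.add_apply, LinearMap.smul_apply, smul_eq_mul]
  linear_combination (norm := module) -h.vadd_self ((r * b * B w z) • w)

theorem Mo.rank1 (h : Mo B) {v : sIsom B} (h1 : finrank F (Im v) = 1) :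
    ∃ u, u ≠ 0 ∧ v = tT B u 1 := by
  obtain ⟨u, -, hu⟩ := finrank_eq_one_iff'.1 h1
  have h2 : Im v ≤ F ∙ (u : M) := fun x hx => by
    obtain ⟨c, hc⟩ := hu ⟨x, hx⟩
    exact Submodule.mem_span_singleton.2 ⟨c, congrArg Subtype.val hc⟩
  obtain ⟨c, hc⟩ := h.mem_RR.1 (Im_le.1 h2)
  obtain ⟨a, -, ha⟩ := h.tT_sqrt u c
  refine ⟨a • (u : M), fun h3 => ?_, hc.trans ha⟩
  rw [ha, h3, h.tT_zero'] at hc
  rw [Im_eq_bot.2 hc, finrank_bot] at h1
  exact zero_ne_one h1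

namespace K3

theorem cert (h : Mo B) {u x : M} (k : P2 B u x) (c : F) :
    ∃ a ∈ Pu B u, ∃ b ∈ Qu B u, lin a x = x ∧ ⁅a, b⁆ = ee B u x c := by
  by_cases c0 : c = 0
  · obtain ⟨z, y, uz, xz, uy, xy, zy, -⟩ := h.hyp2 k.uw (one_ne_zero (α := F))
    have zx := h.swap xz
    have h1 : lin (tE B z x) u = u := by rw [h.lin_tE zx, h.swap uz, h.swap k.uw]; simp
    have h2 : lin (tE B z x) y = y + x := by rw [h.lin_tE zx, zy, xy]; simp
    have h3 : B u (y + x) = 0 := by simp [uy, k.uw]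
    refine ⟨tE B z x, UM.mem_Fx1.2 h1, ee B u y 0, h.ee_mem_Q uy 0,
      by rw [h.lin_tE zx, zx, h.alt]; simp, ?_⟩
    rw [commutatorElement_def, h.ee_conj _ uy, h1, h2, inv_eq_of_mul_eq_one_right (h.ee_sq uy 0),
      h.ee_mul h3 uy, c0]
    congr 1
    · linear_combination (norm := module) h.vadd_self y
    · simp [h.alt, xy]
  · obtain ⟨p, h1, h2⟩ := h.dual2 k.ne k.not_mem 0 c
    refine ⟨tT B x c⁻¹, h.tT_mem_Fx (h.mem_orth1.2 k.uw) _, ee B u p 0, h.ee_mem_Q h1 0,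
      by rw [h.lin_tT, h.alt]; simp, ?_⟩
    rw [h.comm_T h1 k.uw, h2, inv_mul_cancel₀ c0, one_smul, one_mul]

theorem tT_eq (h : Mo B) {u y : M} (k : B u y = 0) (c : F) : tT B u c = ee B u y c * ee B u y 0 := by
  rw [h.ee_mul k k, h.vadd_self, h.alt, add_zero, add_zero, h.ee_zero']

end K3

theorem Mo.cert (h : Mo B) {u : M} (u0 : u ≠ 0) {v : sIsom B} (hv : v ∈ Qu B u) :
    v ∈ ⁅C1 v ⊓ Pu B u, C1 v ⊓ Pu B u⁆ := by
  obtain ⟨x, c, ux, rfl⟩ := (h.mem_Q u0).1 hv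
  by_cases hx : x ∈ F ∙ u
  · obtain ⟨a, rfl⟩ := Submodule.mem_span_singleton.1 hx
    rw [h.ee_self]
    have h1 : Pu B u ≤ C1 (tT B u c) := fun g hg => mem_C1.2 (by
      rw [← mul_inv_eq_iff_eq_mul, h.tT_conj, UM.mem_Fx1.1 hg])
    rw [inf_eq_right.2 h1]
    obtain ⟨y, k⟩ := h.ext2 u0
    have h2 : ∀ d, ee B u y d ∈ ⁅Pu B u, Pu B u⁆ := fun d => by
      obtain ⟨a, ha, b, hb, -, e⟩ := K3.cert h k d
      exact e ▸ commutator_mem_commutator ha (UM.QW_le_Fx hb)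
    rw [tT_eq h k.uw]
    exact mul_mem (h2 c) (h2 0)
  · obtain ⟨a, ha, b, hb, h1, e⟩ := K3.cert h (P2.iff.2 ⟨ux, u0, hx⟩) c
    have h2 : Commute a (ee B u x c) :=
      (h.comm_ee u0 ux (UM.mem_Fx1.1 ha) c).2 (by rw [h1, h.vadd_self]; exact zero_mem _)
    have h3 := commutator_mem_commutator (H₁ := C1 (ee B u x c) ⊓ Pu B u)
      (H₂ := C1 (ee B u x c) ⊓ Pu B u) ⟨mem_C1.2 h2, ha⟩
      ⟨mem_C1.2 (h.comm_Q u0 hb hv), UM.QW_le_Fx hb⟩
    rwa [e] at h3

theorem Mo.seven (h : Mo B) {x y z : M} (k : O3 B x y z) :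
    tT B x 1 * tT B y 1 * tT B z 1 * tT B (x + y) 1 * tT B (x + z) 1 * tT B (y + z) 1 *
      tT B (x + y + z) 1 = 1 := by
  refine lin_ext fun m => ?_
  simp only [lin_mul, lin_one, h.lin_tT, map_add, map_smul, LinearMap.add_apply, smul_eq_mul, h.alt,
    k.uw, k.ux, k.wx, h.swap k.uw, h.swap k.ux, h.swap k.wx, mul_zero, zero_smul, add_zero, one_mul]
  linear_combination (norm := module) h.vadd_self ((2 * B x m + B y m + B z m) • x +
    (B x m + 2 * B y m + B z m) • y + (B x m + B y m + 2 * B z m) • z)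

theorem Mo.gen_Qa (h : Mo B) {u : M} (u0 : u ≠ 0) {H : Subgroup (sIsom B)}
    (k : ∀ x, P2 B u x → tE B u x ∈ H) : Qu B u ≤ H := by
  have key : ∀ y, P2 B u y → ∀ c, ee B u y c ∈ H := fun y ky c => by
    by_cases c0 : c = 0
    · rw [c0, h.ee_zero]; exact k y ky
    obtain ⟨x, h1, h2⟩ := h.dual2 u0 ky.not_mem 0 c
    have h3 : ∀ p, B y p = c → p ∉ F ∙ u := fun p hp hm => by
      obtain ⟨a, rfl⟩ := Submodule.mem_span_singleton.1 hm
      exact c0 (by rw [← hp, sm (h.swap ky.uw)])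
    have h4 : B u (x + y) = 0 := by simp [h1, ky.uw]
    have h5 := mul_mem (k _ (P2.iff.2 ⟨h4, u0, h3 _ (by simp [h2, h.alt])⟩))
      (k _ (P2.iff.2 ⟨h1, u0, h3 _ h2⟩))
    rw [h.tE_mul h4 h1] at h5
    convert h5 using 2
    · linear_combination (norm := module) -h.vadd_self x
    · simp [h.alt, h2]
  intro g hg
  obtain ⟨y, c, uy, rfl⟩ := (h.mem_Q u0).1 hg
  by_cases hy : y ∈ F ∙ u
  · obtain ⟨a, rfl⟩ := Submodule.mem_span_singleton.1 hy
    obtain ⟨x, kx⟩ := h.ext2 u0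
    rw [h.ee_self, tT_eq h kx.uw]
    exact mul_mem (key x kx c) (key x kx 0)
  · exact key y (P2.iff.2 ⟨uy, u0, hy⟩) c

theorem K3.add_not {u y z : M} (hz : z ∉ l2 F u y) (a : F) : z + a • y ∉ F ∙ u := fun hm =>
  hz (by simpa using sub_mem (le1 u y hm) (Submodule.smul_mem _ a (m2 u y)))

theorem Mo.gen_Qc (h : Mo B) {u : M} (u0 : u ≠ 0) {H : Subgroup (sIsom B)} {c : F}
    (k : ∀ x, P2 B u x → ee B u x c ∈ H) : Qu B u ≤ H := by
  refine h.gen_Qa u0 fun y ky => ?_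
  obtain ⟨x, h1, h2, h3⟩ := h.out2 ky.uw
  have h4 : B u (x + y) = 0 := by simp [h1, ky.uw]
  have h5 := mul_mem (k _ (P2.iff.2 ⟨h4, u0, by simpa using K3.add_not h3 1⟩))
    (k _ (P2.iff.2 ⟨h1, u0, fun hm => h3 (le1 u y hm)⟩))
  rw [h.ee_mul h4 h1] at h5
  rw [← h.ee_zero]
  convert h5 using 2
  · linear_combination (norm := module) -h.vadd_self x
  · simp [h.alt, h2, h.add_self]

theorem Mo.gen_B (h : Mo B) {u x : M} (u0 : u ≠ 0) (k : B u x = 0) {H : Subgroup (sIsom B)}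
    (hH : ∀ y (a : F), B u y = 0 → B x y = 0 → y ∉ F ∙ u → ee B u (a • y) (a * a) ∈ H) {y : M}
    (h1 : B u y = 0) (h2 : B x y = 0) (c : F) : ee B u y c ∈ H := by
  have key : ∀ y, B u y = 0 → B x y = 0 → ee B u y 0 ∈ H := fun y h1 h2 => by
    obtain ⟨z, uz, xz, yz, -, h3⟩ := h.out3 u0 k h1
    have h4 : B u (z + y) = 0 := by simp [h1, uz]
    have h5 := mul_mem (hH _ 1 h4 (by simp [xz, h2]) (by simpa using K3.add_not h3 1))
      (hH _ 1 uz xz fun hm => h3 (le1 u y hm))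
    rw [one_smul, one_smul, h.ee_mul h4 uz] at h5
    convert h5 using 2
    · linear_combination (norm := module) -h.vadd_self z
    · simp [h.alt, yz, h.add_self]
  obtain ⟨a, rfl⟩ := h.exists_sq c
  obtain ⟨z, uz, xz, yz, -, h3⟩ := h.out3 u0 k h1
  have h4 : B u (a • z + y) = 0 := by simp [h1, uz]
  have h5 := mul_mem (key _ h4 (by simp [xz, h2])) (hH _ a uz xz fun hm => h3 (le1 u y hm))
  rw [h.ee_mul h4 (sm uz a)] at h5
  convert h5 using 2
  · linear_combination (norm := module) -h.vadd_self (a • z)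
  · simp [h.alt, yz]

theorem Mo.T_group (h : Mo B) {A : Subgroup (sIsom B)} (k : ∀ a ∈ A, ∃ u, a = tT B u 1) :
    Nat.card A ≤ Nat.card F := by
  obtain ⟨u, u0, hle⟩ : ∃ u, u ≠ 0 ∧ A ≤ RR B u := by
    by_cases h1 : ∃ u, u ≠ 0 ∧ tT B u 1 ∈ A
    · obtain ⟨u, u0, hu⟩ := h1
      refine ⟨u, u0, fun b hb => ?_⟩
      obtain ⟨w, rfl⟩ := k b hb
      refine h.tT_mem (by_contra fun hw => ?_) 1
      obtain ⟨p, hp⟩ := k _ (mul_mem hu hb)
      obtain ⟨z, h2, h3⟩ := h.dual2 u0 hw 1 0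
      obtain ⟨z', h4, h5⟩ := h.dual2 u0 hw (B u w) 1
      have h6 := congrArg (fun g => lin g z) hp
      have h7 := congrArg (fun g => lin g z') hp
      simp only [lin_mul, h.lin_tT, map_add, map_smul, h2, h3, h4, h5, one_mul, zero_smul, add_zero,
        one_smul] at h6 h7
      have h8 : u = B p z • p := add_left_cancel h6
      have h9 : w = B p z' • p := by
        linear_combination (norm := module) h7 - h.vadd_self (B u w • u)
      have h10 : B p z ≠ 0 := fun e => u0 (by rw [h8, e, zero_smul])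
      refine hw (Submodule.mem_span_singleton.2 ⟨B p z' * (B p z)⁻¹, ?_⟩)
      rw [h9]
      conv_lhs => enter [2]; rw [h8]
      rw [smul_smul, mul_assoc, inv_mul_cancel₀ h10, mul_one]
    · obtain ⟨u, u0⟩ := h.exists_ne
      refine ⟨u, u0, fun b hb => ?_⟩
      obtain ⟨w, rfl⟩ := k b hb
      have : w = 0 := by_contra fun hw => h1 ⟨w, hw, hb⟩
      rw [this, h.tT_zero']
      exact one_mem _
  rw [← h.card_RR u0]
  exact Subgroup.card_le_of_le hle

end Model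

end Cfsg.Lib.SPN
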