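import Cfsg.Agent.SPN.A1
import Cfsg.Agent.SPN.GEN
import Cfsg.Agent.SPN.J2
import Cfsg.Agent.SPN.K1
import Cfsg.Agent.SPN.K2
import Cfsg.Agent.SPN.K4

/-!
# Standard subgroups of type `Sp_{2k}(2ⁿ)`: transfer along `φ`
-/

set_option autoImplicit false
set_option linter.unusedSectionVars false
set_option linter.unusedVariables false

namespace Cfsg.Lib.SPN

open Subgroup Module Cfsg.Lib.Trans Cfsg.Lib.Gold Cfsg.Lib.Class.Form Cfsg.Lib.Class.FAut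
open Cfsg.Lib.UM (tT tE VW RR Fx St QW Cf mp Semi fa Mp cx re Ot kk Mx Fr3)
open Cfsg.Lib.SG2 (Uq Top)
open Cfsg.Lib.Comp (Tw)
open scoped commutatorElement

variable {G F M : Type*} [Group G] [Finite G] [Field F] [Finite F] [AddCommGroup M] [Module F M]
  [FiniteDimensional F M] {B : M →ₗ[F] M →ₗ[F] F} {φ φ' : sIsom B →* G} {t : G}

namespace KIT

theorem tw_odd {a : G} (ha : Tw a) (ho : Odd (orderOf a)) : a = 1 := by
  obtain ⟨k, hk⟩ := ha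
  exact orderOf_eq_one_iff.1 (Nat.Coprime.eq_one_of_dvd
    (Nat.Coprime.pow_right k (Nat.coprime_two_right.2 ho)) (orderOf_dvd_of_pow_eq_one hk))

theorem tw_inv {a : G} (ha : Tw a) : Tw a⁻¹ := by
  obtain ⟨k, hk⟩ := ha
  exact ⟨k, by rw [inv_pow, hk, inv_one]⟩

theorem tw_mul {a b : G} (ha : Tw a) (hb : Tw b) (e : Commute a b) : Tw (a * b) := by
  obtain ⟨k, hk⟩ := ha
  obtain ⟨j, hj⟩ := hb
  exact ⟨k + j, by
    rw [e.mul_pow, pow_add, pow_mul, hk, mul_comm (2 ^ k), pow_mul, hj, one_pow, one_pow, one_mul]⟩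

theorem comm_le {A K : Subgroup G} (hA : A ≤ K) (k : ∀ x ∈ K, ∃ a ∈ A, a⁻¹ * x ∈ Cs K) :
    ⁅K, K⁆ ≤ ⁅A, A⁆ := by
  refine commutator_le.2 fun x hx y hy => ?_
  obtain ⟨a, ha, e1⟩ := k x hx
  obtain ⟨b, hb, e2⟩ := k y hy
  have c1 : ∀ x w z : G, w * z = z * w → ⁅x * z, w⁆ = ⁅x, w⁆ := fun x w z hz => by
    rw [commutatorElement_def, commutatorElement_def, mul_assoc x z, ← hz]
    group
  rw [← mul_inv_cancel_left a x, c1 _ _ _ (mem_Cs.1 e1 y hy), ← mul_inv_cancel_left b y,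
    ← commutatorElement_inv, c1 _ _ _ (mem_Cs.1 e2 a (hA ha)), commutatorElement_inv]
  exact commutator_mem_commutator ha hb

end KIT

theorem Mod.cx (h : Mod φ) (g : G) : Mod (cx φ g) :=
  ⟨h.toMo, (MulAut.conj g).injective.comp h.inj⟩

theorem Mod.re (h : Mod φ) (α : MulAut (sIsom B)) : Mod (re φ α) :=
  ⟨h.toMo, h.inj.comp α.injective⟩

theorem Mod.comm (h : Mod φ) {a b : sIsom B} : Commute (φ a) (φ b) ↔ Commute a b :=
  ⟨fun e => h.inj (by rw [map_mul, map_mul, e.eq]), fun e => e.map φ⟩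

theorem Mod.mem_map (h : Mod φ) {A : Subgroup (sIsom B)} {a : sIsom B} : φ a ∈ A.map φ ↔ a ∈ A :=
  mem_map_iff_mem h.inj

theorem Mod.card_map (h : Mod φ) (A : Subgroup (sIsom B)) : Nat.card (A.map φ) = Nat.card A :=
  card_map_of_injective h.inj

theorem Mod.perf (h : Mod φ) : ⁅φ.range, φ.range⁆ = φ.range := by
  rw [MonoidHom.range_eq_map, ← map_commutator, ← commutator_def, h.toMo.perf]

theorem Mod.one_of (h : Mod φ) {a : sIsom B} (e : φ a ∈ Cs φ.range) : a = 1 :=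
  mem_bot.1 (h.toMo.center_bot ▸ mem_center_iff.2 fun g =>
    (h.comm.1 (mem_Cs.1 e _ ⟨g, rfl⟩)).eq)

theorem Mod.exists_Mp (h : Mod φ) (h' : Mod φ') {c : G} (e : cj c φ.range = φ'.range) :
    ∃ α, Mp φ φ' c α := by
  rw [← UM.range_cx] at e
  refine ⟨((MonoidHom.ofInjective (h.cx c).inj).trans (MulEquiv.subgroupCongr e)).trans
    (MonoidHom.ofInjective h'.inj).symm, fun g => ?_⟩
  rw [MulEquiv.trans_apply, MonoidHom.apply_ofInjective_symm]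
  rfl

theorem Mod.ind (h : Mod φ) {c : G} (e : c ∈ Ns φ.range) : ∃ α, Mp φ φ c α :=
  h.exists_Mp h (mem_Ns_iff.1 e)

theorem Mod.mp_uniq (h' : Mod φ') {c : G} {α β : MulAut (sIsom B)} (k : Mp φ φ' c α)
    (k' : Mp φ φ' c β) : α = β :=
  MulEquiv.ext fun g => h'.inj ((k g).symm.trans (k' g))

theorem Mod.mp_fix (h : Mod φ) {c : G} {α : MulAut (sIsom B)} (k : Mp φ φ c α) {a : sIsom B} :
    Commute c (φ a) ↔ α a = a :=
  ⟨fun e => h.inj (by rw [← k, e.eq, mul_inv_cancel_right]),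
    fun e => mul_inv_eq_iff_eq_mul.1 (by rw [k, e])⟩

theorem Mod.mp_sq (h : Mod φ) {c : G} {α : MulAut (sIsom B)} (k : Mp φ φ c α) (e : c * c = 1) :
    α * α = 1 := h.mp_uniq (k.mul k) (e ▸ Mp.one)

theorem Mod.mp_conj (h : Mod φ) {c : G} {l : sIsom B} (k : Mp φ φ c (MulAut.conj l)) :
    (φ l)⁻¹ * c ∈ Cs φ.range := by
  have := (Mp.self (y := φ) l).inv.mul k
  rw [inv_mul_cancel] at this
  exact this.mem_Cs

theorem Mod.exists_ind (h : Mod φ) :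
    ∃ ρ : Ns φ.range →* MulAut (sIsom B), ∀ c, Mp φ φ c.1 (ρ c) := by
  choose ρ hρ using fun c : Ns φ.range => h.ind c.2
  exact ⟨MonoidHom.mk' ρ fun a b => h.mp_uniq (hρ _) ((hρ a).mul (hρ b)), hρ⟩

theorem Mod.perf_le (h : Mod φ) {Y : Subgroup G} (hY : ⁅Y, Y⁆ = Y) (hn : Y ≤ Ns φ.range) :
    Y ≤ φ.range ⊔ Cs φ.range := by
  refine hY.ge.trans (commutator_le.2 fun a ha b hb => ?_)
  obtain ⟨α, k⟩ := h.ind (hn ha)
  obtain ⟨β, k'⟩ := h.ind (hn hb)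
  have k1 := ((k.mul k').mul k.inv).mul k'.inv
  obtain ⟨l, hl⟩ := h.toMo.inner (α := α * β * α⁻¹ * β⁻¹) (by
    rw [h.toMo.fa_mul, h.toMo.fa_mul, h.toMo.fa_mul, h.toMo.fa_inv, h.toMo.fa_inv,
      UM.aut_comm (fa α)]
    group)
  rw [commutatorElement_def, ← mul_inv_cancel_left (φ l) (a * b * a⁻¹ * b⁻¹)]
  exact mul_mem_sup ⟨l, rfl⟩ (h.mp_conj (hl ▸ k1))

theorem Mod.hom_P (h : Mod φ) {A : Subgroup (sIsom B)} {d : G} (e : d ∈ Ns (A.map φ)) :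
    ∃ β : MulAut A, ∀ p : A, d * φ p * d⁻¹ = φ (β p) := by
  have ex : ∀ p : A, ∃ p' : A, φ p' = d * φ p * d⁻¹ := fun p => by
    obtain ⟨a, ha, e⟩ := mem_normalizer_conj e (mem_map_of_mem φ p.2)
    exact ⟨⟨a, ha⟩, e⟩
  choose f hf using ex
  let L : A →* A := MonoidHom.mk' f fun a b =>
    Subtype.ext (h.inj (by rw [hf, coe_mul, coe_mul, map_mul, map_mul, hf, hf, conj_mul]))
  have hi : Function.Injective L := fun a b e => Subtype.ext (h.inj (by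
    have := (hf a).symm.trans ((congrArg (fun x : A => φ x) e).trans (hf b))
    simpa using this))
  exact ⟨MulEquiv.ofBijective L (Finite.injective_iff_bijective.1 hi), fun p => (hf p).symm⟩

theorem Hyp.cx (h : Hyp φ t) (g : G) : Hyp (cx φ g) (g * t * g⁻¹) where
  toMod := h.toMod.cx g
  t2 := Comp.conj_sq h.t2 g
  t1 := by simpa using h.t1
  tc a := (h.tc a).map (MulAut.conj g)
  cn := by rw [UM.range_cx, ← cj_C1, ← cj_Ns]; exact cj_mono g h.cn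
  cyc P hP hle := by
    rw [UM.range_cx, ← cj_Cs] at hle
    have := h.cyc _ (isPGroup_cj hP g⁻¹) (cj_inv_le_iff_le_cj.2 hle)
    exact isCyclic_of_injective (cjEquiv g⁻¹ P).toMonoidHom (cjEquiv g⁻¹ P).injective

theorem Hyp.re (h : Hyp φ t) (α : MulAut (sIsom B)) : Hyp (re φ α) t where
  toMod := h.toMod.re α
  t2 := h.t2
  t1 := h.t1
  tc a := h.tc (α a)
  cn := by rw [UM.range_re]; exact h.cn
  cyc := by rw [UM.range_re]; exact h.cyc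

theorem Ot_cx (φ : sIsom B →* G) (t g : G) : Ot (cx φ g) (g * t * g⁻¹) = cj g (Ot φ t) := by
  rw [Ot, Ot, cj_Oc, cj_inf, cj_C1, cj_Cs, UM.range_cx]

theorem H1.cx (h : H1 φ t) (g : G) : H1 (cx φ g) (g * t * g⁻¹) where
  toHyp := h.toHyp.cx g
  dec c hc := by
    rw [UM.range_cx, ← cj_C1, ← cj_Cs, ← cj_inf, mem_cj] at hc
    rw [Ot_cx, mem_cj, mem_cj, show g⁻¹ * (g * t * g⁻¹ * c) * g = t * (g⁻¹ * c * g) by group]
    exact h.dec _ hc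

theorem H1.re (h : H1 φ t) (α : MulAut (sIsom B)) : H1 (re φ α) t where
  toHyp := h.toHyp.re α
  dec := by rw [Ot, UM.range_re]; exact h.dec

theorem AA_cx (φ : sIsom B →* G) (t g : G) (A : Subgroup (sIsom B)) :
    AA (cx φ g) (g * t * g⁻¹) A = cj g (AA φ t A) := by
  rw [AA, AA, cj_sup, cj_zpowers, UM.map_cx]

theorem Hyp.semi (h : Hyp φ t) {c : G} (e : Commute c t) : ∃ α Γ τ, Mp φ φ c α ∧ Semi α Γ τ :=
  let ⟨α, k⟩ := h.toMod.ind (h.cn (mem_C1.2 e))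
  let ⟨Γ, k'⟩ := h.toMo.semi α
  ⟨α, Γ, _, k, k'⟩

theorem Hyp.L_le (h : Hyp φ t) : φ.range ≤ C1 t := by
  rintro _ ⟨a, rfl⟩
  exact mem_C1.2 (h.tc a).symm

theorem Hyp.tC (h : Hyp φ t) : t ∈ Cs φ.range := mem_Cs.2 fun _ hu => mem_C1.1 (h.L_le hu)

theorem Hyp.t_not (h : Hyp φ t) : t ∉ φ.range := by
  rintro ⟨a, e⟩
  have := h.toMod.one_of (a := a) (e ▸ h.tC)
  exact h.t1 (by rw [← e, this, map_one])

theorem Hyp.t_ne (h : Hyp φ t) (a b : sIsom B) : t * φ a ≠ φ b := fun e =>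
  h.t_not ⟨b * a⁻¹, by rw [map_mul, map_inv, ← e, mul_inv_cancel_right]⟩

theorem Hyp.conj_t (h : Hyp φ t) (g v : sIsom B) :
    φ g * (t * φ v) * (φ g)⁻¹ = t * φ (g * v * g⁻¹) := by
  rw [← mul_assoc, ← (h.tc g).eq, map_mul, map_mul, map_inv]
  group

theorem Hyp.isConj (h : Hyp φ t) (g : sIsom B) {v : sIsom B} (e : IsConj t (t * φ v)) :
    IsConj t (t * φ (g * v * g⁻¹)) :=
  e.trans (isConj_iff.2 ⟨φ g, h.conj_t g v⟩)

theorem Hyp.inv_eq (h : Hyp φ t) {c : G} (hc : c ∈ Cs φ.range) (c2 : c * c = 1)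
    (ct : Commute c t) : c = 1 ∨ c = t := by
  have hA := Comp.sq_sup (Comp.sq_zpowers c2) (Comp.sq_zpowers h.t2) fun a ha b hb => by
    rcases Tl.mem_zpowers_of_sq c2 ha with rfl | rfl <;>
      rcases Tl.mem_zpowers_of_sq h.t2 hb with rfl | rfl <;> simp [ct.eq]
  obtain ⟨r, hr⟩ := (Subgroup.isCyclic_iff_exists_zpowers_eq_top _).1 (h.cyc _ (isPGroup_of_sq hA)
    (sup_le (zpowers_le.2 hc) (zpowers_le.2 h.tC)))
  exact or_iff_not_imp_left.2 fun c1 => Comp.zpowers_uniq c (hr ▸ mem_sup_left (mem_zpowers c)) t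
    (hr ▸ mem_sup_right (mem_zpowers t)) c2 h.t2 c1 h.t1

theorem Hyp.perf (h : Hyp φ t) {Y : Subgroup G} (hY : ⁅Y, Y⁆ = Y) (hn : Y ≤ C1 t) : Y ≤ φ.range := by
  obtain ⟨T⟩ : Nonempty (Sylow 2 (Cs φ.range)) := inferInstance
  have := h.cyc _ (T.2.map (Cs φ.range).subtype) (map_subtype_le _)
  exact GW.Lift.perfect_le_of_le_sup hY (h.toMod.perf_le hY (hn.trans h.cn)) Cs_le_Ns
    (Cor.isSolvable_of_isCyclic_sylow_two T (isCyclic_of_injective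
      (equivMapOfInjective _ _ (subtype_injective _)).toMonoidHom (MulEquiv.injective _)))

theorem Hyp.inn (h : Hyp φ t) {a : G} (ha : Commute a t) (a2 : a * a = 1) {α : MulAut (sIsom B)}
    (k : Mp φ φ a α) (e : fa α = 1) : ∃ l, l * l = 1 ∧ (a = φ l ∨ a = t * φ l) := by
  obtain ⟨l, rfl⟩ := h.toMo.inner e
  have l2 : l * l = 1 := h.toMo.conj_inj (by rw [map_mul, h.toMod.mp_sq k a2, map_one])
  have hc := h.toMod.mp_conj k
  obtain ⟨c, rfl⟩ : ∃ c, a = φ l * c := ⟨(φ l)⁻¹ * a, by group⟩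
  rw [inv_mul_cancel_left] at hc
  have lc : Commute (φ l) c := mem_Cs.1 hc _ ⟨l, rfl⟩
  rw [lc.symm.mul_mul_mul_comm, ← map_mul, l2, map_one, one_mul] at a2
  refine ⟨l, l2, ?_⟩
  rcases h.inv_eq hc a2 (mem_C1.1 ((mul_mem_cancel_left (h.L_le ⟨l, rfl⟩)).1 (mem_C1.2 ha)))
    with rfl | rfl
  · exact .inl (mul_one _)
  · exact .inr lc.eq

theorem Hyp.mem_AA (h : Hyp φ t) {A : Subgroup (sIsom B)} {a : G} :
    a ∈ AA φ t A ↔ ∃ v ∈ A, a = φ v ∨ a = t * φ v := by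
  constructor
  · intro ha
    obtain ⟨s, hs, _, ⟨v, hv, rfl⟩, rfl⟩ :=
      (SG2.mem_sup_Cs (zpowers_le.2 (Cs_anti (map_le_range _ _) h.tC))).1 ha
    refine ⟨v, hv, ?_⟩
    rcases Tl.mem_zpowers_of_sq h.t2 hs with rfl | rfl
    · exact .inl (one_mul _)
    · exact .inr rfl
  · rintro ⟨v, hv, rfl | rfl⟩
    · exact mem_sup_right ⟨v, hv, rfl⟩
    · exact mul_mem_sup (mem_zpowers t) ⟨v, hv, rfl⟩

theorem Hyp.card_AA (h : Hyp φ t) (A : Subgroup (sIsom B)) :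
    Nat.card (AA φ t A) = 2 * Nat.card A := by
  rw [AA, sup_comm, Solv.PG.card_sup_zpowers Nat.prime_two
    (Cs_le_Ns (Cs_anti (map_le_range _ _) h.tC))
    (fun e => h.t_not (map_le_range _ _ e)) (by rw [pow_two, h.t2]; exact one_mem _),
    h.toMod.card_map]

theorem KIT.mem_AA (h : Hyp φ t) {A : Subgroup (sIsom B)} {a : sIsom B} :
    φ a ∈ AA φ t A ↔ a ∈ A := by
  refine ⟨fun k => ?_, fun k => mem_sup_right (mem_map_of_mem φ k)⟩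
  obtain ⟨v, hv, e | e⟩ := h.mem_AA.1 k
  · exact h.inj e ▸ hv
  · exact absurd e.symm (h.t_ne _ _)

theorem KIT.t_AA (A : Subgroup (sIsom B)) : t ∈ AA φ t A := mem_sup_left (mem_zpowers t)

theorem Hyp.AA_inj (h : Hyp φ t) {A A' : Subgroup (sIsom B)} : AA φ t A ≤ AA φ t A' ↔ A ≤ A' :=
  ⟨fun e _ ha => (KIT.mem_AA h).1 (e ((KIT.mem_AA h).2 ha)),
    fun e => sup_le_sup_left (map_mono e) _⟩

theorem Hyp.AA_lift (h : Hyp φ t) {Y : Subgroup G} (ht : t ∈ Y) (hY : Y ≤ AA φ t ⊤) :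
    ∃ A, Y = AA φ t A := by
  refine ⟨Y.comap φ, le_antisymm (fun y hy => ?_) (sup_le (zpowers_le.2 ht) (map_comap_le _ _))⟩
  obtain ⟨v, -, rfl | rfl⟩ := h.mem_AA.1 (hY hy)
  · exact h.mem_AA.2 ⟨v, hy, .inl rfl⟩
  · exact h.mem_AA.2 ⟨v, (mul_mem_cancel_left ht).1 hy, .inr rfl⟩

theorem Hyp.sq_AA (h : Hyp φ t) {A : Subgroup (sIsom B)} (hA : ∀ a ∈ A, a * a = 1) {x : G}
    (hx : x ∈ AA φ t A) : x * x = 1 := by
  obtain ⟨v, hv, rfl | rfl⟩ := h.mem_AA.1 hx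
  · rw [← map_mul, hA v hv, map_one]
  · rw [(h.tc v).symm.mul_mul_mul_comm, h.t2, ← map_mul, hA v hv, map_one, one_mul]

theorem Hyp.AA_le (h : Hyp φ t) (A : Subgroup (sIsom B)) : AA φ t A ≤ C1 t :=
  sup_le (zpowers_le.2 (mem_C1.2 rfl)) ((map_le_range _ _).trans h.L_le)

theorem KIT.t_Cs (h : Hyp φ t) (A : Subgroup (sIsom B)) : t ∈ Cs (AA φ t A) :=
  mem_Cs.2 fun _ hu => mem_C1.1 (h.AA_le A hu)

theorem Hyp.comm_AA (h : Hyp φ t) (A : Subgroup (sIsom B)) :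
    ⁅AA φ t A, AA φ t A⁆ = ⁅A, A⁆.map φ := by
  rw [map_commutator]
  refine le_antisymm (KIT.comm_le le_sup_right fun x hx => ?_)
    (commutator_mono le_sup_right le_sup_right)
  obtain ⟨v, hv, rfl | rfl⟩ := h.mem_AA.1 hx
  · exact ⟨_, mem_map_of_mem φ hv, by rw [inv_mul_cancel]; exact one_mem _⟩
  · exact ⟨_, mem_map_of_mem φ hv, by rw [(h.tc v).eq, inv_mul_cancel_left]; exact KIT.t_Cs h A⟩

theorem KIT.mem_Cs_AA (h : Hyp φ t) {A : Subgroup (sIsom B)} {a : sIsom B} :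
    φ a ∈ Cs (AA φ t A) ↔ a ∈ Cs A := by
  refine ⟨fun k => mem_Cs.2 fun u hu => (h.toMod.comm.1 (mem_Cs.1 k _ ((KIT.mem_AA h).2 hu))).eq,
    fun k => mem_Cs.2 fun u hu => ?_⟩
  obtain ⟨v, hv, rfl | rfl⟩ := h.mem_AA.1 hu
  · exact (h.toMod.comm.2 (mem_Cs.1 k v hv)).eq
  · exact ((h.tc a).mul_left (h.toMod.comm.2 (mem_Cs.1 k v hv))).eq

theorem Hyp.Z_AA (h : Hyp φ t) (A : Subgroup (sIsom B)) :
    AA φ t A ⊓ Cs (AA φ t A) = AA φ t (A ⊓ Cs A) := by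
  refine le_antisymm (fun x hx => ?_) (sup_le (zpowers_le.2 ⟨KIT.t_AA A, KIT.t_Cs h A⟩) ?_)
  · obtain ⟨v, hv, rfl | rfl⟩ := h.mem_AA.1 hx.1
    · exact h.mem_AA.2 ⟨v, ⟨hv, (KIT.mem_Cs_AA h).1 hx.2⟩, .inl rfl⟩
    · exact h.mem_AA.2 ⟨v, ⟨hv, (KIT.mem_Cs_AA h).1
        ((mul_mem_cancel_left (KIT.t_Cs h A)).1 hx.2)⟩, .inr rfl⟩
  · rintro _ ⟨v, hv, rfl⟩
    exact ⟨(KIT.mem_AA h).2 hv.1, (KIT.mem_Cs_AA h).2 hv.2⟩

theorem Hyp.cj_AA (h : Hyp φ t) (g : sIsom B) (A : Subgroup (sIsom B)) :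
    cj (φ g) (AA φ t A) = AA φ t (cj g A) := by
  rw [AA, AA, cj_sup, cj_zpowers, map_cj, ← (h.tc g).eq, mul_inv_cancel_right]

theorem Hyp.Ns_map (h : Hyp φ t) {A : Subgroup (sIsom B)} {c : G} (e : Commute c t)
    (k : c ∈ Ns (AA φ t A)) : c ∈ Ns (A.map φ) := by
  obtain ⟨α, k'⟩ := h.toMod.ind (h.cn (mem_C1.2 e))
  refine mem_normalizer_of_cj_le (cj_le_iff.2 ?_)
  rintro _ ⟨v, hv, rfl⟩
  have := mem_normalizer_conj k ((KIT.mem_AA h).2 hv)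
  rw [k'] at this ⊢
  exact mem_map_of_mem φ ((KIT.mem_AA h).1 this)

theorem Ot_le : Ot φ t ≤ C1 t ⊓ Cs φ.range := Oc_le

theorem odd_Ot {o : G} (ho : o ∈ Ot φ t) : Odd (orderOf o) :=
  (odd_card_Oc (L := C1 t ⊓ Cs φ.range)).of_dvd_nat (orderOf_dvd_natCard _ ho)

theorem Ot_comm {o : G} (ho : o ∈ Ot φ t) (g : sIsom B) : Commute o (φ g) :=
  (mem_Cs.1 (Ot_le ho).2 _ ⟨g, rfl⟩).symm

theorem L_le_Cs_Ot : φ.range ≤ Cs (Ot φ t) := by
  rintro _ ⟨g, rfl⟩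
  exact mem_Cs.2 fun o ho => Ot_comm ho g

theorem t_mem_Cs_Ot : t ∈ Cs (Ot φ t) := mem_Cs.2 fun _ ho => mem_C1.1 (Ot_le ho).1

theorem Ot_sq {o : G} (ho : o ∈ Ot φ t) (e : o * o = 1) : o = 1 :=
  eq_one_of_sq_of_odd e (odd_Ot ho)

theorem Ot_kill {y o : G} (hy : y ∈ Cs (Ot φ t)) (ho : o ∈ Ot φ t) (h1 : Tw y) (h2 : Tw (y * o)) :
    o = 1 := by
  have c : Commute y o := (mem_Cs.1 hy o ho).symm
  have := KIT.tw_mul (KIT.tw_inv h1) h2 ((Commute.refl y).mul_right c).inv_left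
  rw [inv_mul_cancel_left] at this
  exact KIT.tw_odd this (odd_Ot ho)

theorem Hyp.Ot_AA (h : Hyp φ t) {o : G} (ho : o ∈ Ot φ t) (e : o ∈ AA φ t ⊤) : o = 1 := by
  obtain ⟨v, -, rfl | rfl⟩ := h.mem_AA.1 e
  · rw [h.toMod.one_of (Ot_le ho).2, map_one]
  · obtain rfl := h.toMod.one_of ((mul_mem_cancel_left h.tC).1 (Ot_le ho).2)
    rw [map_one, mul_one] at ho ⊢
    exact Ot_sq ho h.t2

theorem Hyp.Ns_Ot (h : Hyp φ t) : C1 t ≤ Ns (Ot φ t) :=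
  le_Ns_Oc (le_Ns_inf le_normalizer (le_Ns_Cs h.cn))

theorem H1.dec' (h : H1 φ t) {c : G} (hc : Commute c t) {l : sIsom B}
    (k : Mp φ φ c (MulAut.conj l)) : ∃ o ∈ Ot φ t, c = φ l * o ∨ c = t * φ l * o := by
  have pt : Commute (φ l) t := (h.tc l).symm
  rcases h.dec _ ⟨mem_C1.2 (pt.inv_left.mul_left hc).eq, h.toMod.mp_conj k⟩ with h3 | h3
  · exact ⟨_, h3, Or.inl (by group)⟩
  · exact ⟨_, h3, Or.inr (by rw [← pt.eq, mul_assoc, ← mul_assoc t, h.t2]; group)⟩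

theorem H1.mem_Ot (h : H1 φ t) {c : G} (hc : c ∈ C1 t ⊓ Cs φ.range) (ho : Odd (orderOf c)) :
    c ∈ Ot φ t := by
  refine (h.dec c hc).resolve_right fun h1 => h.t1 (eq_one_of_sq_of_odd h.t2 ?_)
  refine ((odd_Ot h1).mul ho).of_dvd_nat (orderOf_dvd_of_pow_eq_one ?_)
  have := (Commute.symm (mem_C1.1 hc.1)).mul_pow (orderOf (t * c) * orderOf c)
  rw [pow_mul, pow_orderOf_eq_one, one_pow, mul_comm _ (orderOf c), pow_mul c, pow_orderOf_eq_one,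
    one_pow, mul_one, mul_comm] at this
  exact this.symm

theorem H1.odd_Cs (h : H1 φ t) {K : Subgroup G} (hK : φ.range ≤ K) (hO : Ot φ t ≤ Cs K)
    (ht : t ∈ Ns K) (hn : t ∉ Cs K) : Odd (Nat.card (Cs K)) := by
  by_contra he
  rw [Nat.not_odd_iff_even, even_iff_two_dvd] at he
  obtain ⟨b, hb⟩ := exists_prime_orderOf_dvd_card' 2 he
  have b1 : (b : G) ≠ 1 := fun e => by
    rw [OneMemClass.coe_eq_one.1 e, orderOf_one] at hb; omega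
  have b2 : (b : G) * b = 1 := by
    rw [← pow_two, ← hb, ← coe_pow, pow_orderOf_eq_one, coe_one]
  obtain ⟨c, hc, c1, c2, ct⟩ := Comp.exists_fix_even (Comp.Tw.of_sq h.t2).isPGroup
    (zpowers_le.2 (mem_Ns_Cs ht)) b.2 b1 (Comp.Tw.of_sq b2)
  rw [Cs_zpowers] at ct
  rcases h.toHyp.inv_eq (Cs_anti hK hc) c2 (mem_C1.1 ct) with e | e
  · exact c1 e
  · exact hn (e ▸ hc)

end Cfsg.Lib.SPN
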