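import Cfsg.Agent.SPN.A1
import Cfsg.Agent.SPN.AC2
import Cfsg.Agent.SPN.K1
import Cfsg.Agent.SPN.K2
import Cfsg.Agent.SPN.K3
import Cfsg.Agent.SPN.K4
import Cfsg.Agent.SPN.LIFT

/-!
# Standard subgroups of type `Sp_{2k}(2ⁿ)`: centralisers in the automorphism group
-/

set_option autoImplicit false
set_option linter.unusedSectionVars false
set_option linter.unusedVariables false

namespace Cfsg.Lib.SPN

open Subgroup Module Cfsg.Lib.Trans Cfsg.Lib.Gold Cfsg.Lib.Class.Form Cfsg.Lib.Class.FAut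
open Cfsg.Lib.UM (tT tE VW RR Fx St QW Cf mp Semi fa Mp cx re Ot kk Mx Fr3)
open Cfsg.Lib.SG2 (Uq Top)
open Cfsg.Lib.Comp (Tw)
open scoped commutatorElement

variable {F M : Type*} [Field F] [Finite F] [AddCommGroup M] [Module F M] [FiniteDimensional F M]
  {B : M →ₗ[F] M →ₗ[F] F}

namespace A2

theorem zero_of {W : Submodule F M} {y : M} (hy : y ∉ W) {a : F} (e : a • y ∈ W) : a = 0 := by
  by_contra a0
  exact hy ((W.smul_mem_iff a0).1 e)

theorem tau {α : MulAut (sIsom B)} {Γ : M ≃+ M} {τ : F ≃+* F} (k : Semi α Γ τ)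
    {W : Submodule F M} {y : M} (hy : y ∉ W) {b : F} (e : ∀ c : F, b • Γ (c • y) + c • y ∈ W) :
    τ = 1 := RingEquiv.ext fun c => by
  have h1 := W.sub_mem (W.smul_mem (τ c) (e 1)) (e c)
  rw [one_smul, k.smul, show τ c • (b • Γ y + y) - (b • τ c • Γ y + c • y) = (τ c - c) • y by
    module] at h1
  exact sub_eq_zero.1 (zero_of hy h1)

theorem core (h : Mo B) {W : Submodule F M} {y y' z : M} (hz : B y z = 1)
    (hW : ∀ p ∈ W, B p y = 0 ∧ B p z = 0) (hy : y ∉ W)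
    (e : lin (tT B y' 1 * tT B y 1) z - z ∈ W) : y' + y ∈ W := by
  rw [lin_mul, h.lin_tT, h.lin_tT, hz, one_mul, one_mul, one_smul, add_assoc,
    add_sub_cancel_left] at e
  have h1 := (hW _ e).1
  have h2 := (hW _ e).2
  simp only [map_add, map_smul, LinearMap.add_apply, LinearMap.smul_apply, smul_eq_mul, h.alt,
    hz] at h1 h2
  have h3 : B y' (z + y) = 1 := h.sq_inj (by
    rw [map_add]
    linear_combination h1 + h2 - h.two)
  rwa [h3, one_smul, add_comm] at e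

theorem ul (u w : M) : u ∈ l2 F u w := Submodule.subset_span (by simp)
theorem wl (u w : M) : w ∈ l2 F u w := Submodule.subset_span (by simp)
theorem le_l (u w : M) : (F ∙ u) ≤ l2 F u w := (Submodule.span_singleton_le_iff_mem _ _).2 (ul u w)
theorem le_l' (u w : M) : (F ∙ w) ≤ l2 F u w := (Submodule.span_singleton_le_iff_mem _ _).2 (wl u w)

theorem l_orth (h : Mo B) {u w : M} (k : B u w = 0) : l2 F u w ≤ orth B (l2 F u w) :=
  fun x hx => mem_orth.2 fun y hy => h.ti2 k y hy x hx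

theorem md (h : Mo B) {u w : M} (k : P2 B u w) {α : MulAut (sIsom B)} {W : Submodule F M}
    (hW : W ≤ l2 F u w) (e : ∀ y ∈ orth B (l2 F u w), ∀ z ∈ orth B (l2 F u w),
      lin (α (tT B y 1) * tT B y 1) z - z ∈ W) :
    ∃ l, α = MulAut.conj l ∧ ∀ y ∈ orth B (l2 F u w), lin l y + y ∈ W := by
  obtain ⟨Γ, s⟩ := h.semi α
  have h1 : ∀ y ∈ orth B (l2 F u w), y ∉ l2 F u w → Γ y + y ∈ W := fun y hy hn => by
    obtain ⟨z, z1, z2, z3⟩ := h.dual3 k.ne k.not_mem hn 0 0 1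
    have hz := h.mem_orth2.2 ⟨z1, z2⟩
    have := e y hy z hz
    rw [h.semi_tT s, map_one] at this
    exact core h z3 (fun p hp => ⟨mem_orth.1 hy p (hW hp), mem_orth.1 hz p (hW hp)⟩)
      (fun hc => hn (hW hc)) this
  obtain ⟨x, x1, x2, hn⟩ := h.out2 k.uw
  have hx := h.mem_orth2.2 ⟨x1, x2⟩
  have h2 : ∀ y ∈ orth B (l2 F u w), Γ y + y ∈ W := fun y hy => by
    by_cases hn' : y ∈ l2 F u w
    · have := W.sub_mem (h1 _ (add_mem hy hx) fun hc => hn ((add_mem_cancel_left hn').1 hc))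
        (h1 x hx hn)
      rwa [map_add, show Γ y + Γ x + (y + x) - (Γ x + x) = Γ y + y by abel] at this
    · exact h1 y hy hn'
  have h3 := tau s (W := W) (b := 1) (fun hc => hn (hW hc)) fun c => by
    rw [one_smul]
    exact h2 _ (Submodule.smul_mem _ c hx)
  obtain ⟨l, e1, e2⟩ := h.semi_lin (h3 ▸ s)
  exact ⟨l, e1, fun y hy => e2 y ▸ h2 y hy⟩

theorem sym (h : Mo B) {l : sIsom B} (l2' : l * l = 1) (x y : M) :
    B (lin l x + x) y = B x (lin l y + y) := by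
  have e : lin l (lin l x) = x := by rw [← lin_mul, l2']; rfl
  rw [map_add, map_add, LinearMap.add_apply, ← lin_isom l (lin l x) y, e]

theorem perp {u x y : M} (k : B u y = 0) (e : x ∈ F ∙ u) : B x y = 0 := by
  obtain ⟨a, rfl⟩ := Submodule.mem_span_singleton.1 e
  rw [map_smul, LinearMap.smul_apply, k, smul_zero]

theorem inQ (h : Mo B) {u : M} {l : sIsom B} (e : lin l u = u)
    (e' : ∀ x, B u x = 0 → lin l x + x ∈ F ∙ u) : l ∈ Qu B u :=
  ⟨UM.mem_Fx1.2 e, fun x hx => by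
    rw [h.vsub]
    exact e' x (h.mem_orth1.1 hx)⟩

theorem card_le (h : Mo B) {u : M} (u0 : u ≠ 0) {α : MulAut (sIsom B)} {Γ : M ≃+ M} {τ : F ≃+* F}
    (s : Semi α Γ τ) {a : F} (a0 : a ≠ 0) (ha : Γ u = a • u) :
    Nat.card ↥(Qu B u ⊓ Cf α) ≤ Nat.card {x | B u x = 0 ∧ a • Γ x + x ∈ F ∙ u} := by
  have : Finite M := Module.finite_of_finite F
  obtain ⟨z, hz⟩ := h.exists_eq u0 1
  have e : ((Qu B u ⊓ Cf α : Subgroup (sIsom B)) : Set (sIsom B)) ⊆
      (fun x => ee B u x (B z x)) '' {x | B u x = 0 ∧ a • Γ x + x ∈ F ∙ u} := by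
    rintro g ⟨hg, hc⟩
    obtain ⟨x, c, hx, rfl⟩ := (h.mem_Q u0).1 hg
    have key : ∀ x, B u x = 0 → ∀ c, α (ee B u x c) = ee B u x c → a • Γ x + x ∈ F ∙ u :=
      fun x hx c e => by
        have h1 : B u (Γ x) = 0 := by
          have := s.form u x
          rw [hx, map_zero, ha, map_smul, LinearMap.smul_apply, smul_eq_mul] at this
          exact (mul_eq_zero.1 this).resolve_left a0
        rw [h.semi_ee s hx, ha, h.ee_smul h1] at e
        exact ((h.ee_inj u0 (by rw [map_smul, h1, smul_zero]) hx).1 e).1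
    have h1 : B u (x + (c + B z x) • u) = 0 := by rw [map_add, map_smul, hx, h.alt, smul_zero, add_zero]
    have h2 : ee B u (x + (c + B z x) • u) c = ee B u x c := h.ee_add_self hx _ _
    refine ⟨x + (c + B z x) • u, ⟨h1, key _ h1 c (h2.symm ▸ hc)⟩, ?_⟩
    have h3 : B z (x + (c + B z x) • u) = c := by
      rw [map_add, map_smul, h.symm z u, hz, smul_eq_mul]
      linear_combination (B z x) * h.two
    simp only [h3, h2]
  exact (Set.ncard_le_ncard e).trans (Set.ncard_image_le (Set.toFinite _))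

theorem field (h : Mo B) {u : M} (u0 : u ≠ 0) {α : MulAut (sIsom B)} {Γ : M ≃+ M} {τ : F ≃+* F}
    (s : Semi α Γ τ) (a : F) (t1 : τ ≠ 1) :
    Nat.card {x | B u x = 0 ∧ a • Γ x + x ∈ F ∙ u} ^ 2 ≤ Nat.card F ^ (2 * kk F M) := by
  have : Finite M := Module.finite_of_finite F
  obtain ⟨z, hz⟩ := h.exists_eq u0 1
  obtain ⟨θ, hθ⟩ : ∃ θ, τ θ ≠ θ := by
    by_contra hc
    push Not at hc
    exact t1 (RingEquiv.ext hc)
  rw [← h.rank_eq, ← Module.natCard_eq_pow_finrank, pow_two, ← Nat.card_prod]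
  refine Nat.card_le_card_of_injective (fun p => p.1.1 + θ • p.2.1 + B z p.2.1 • z) ?_
  rintro ⟨⟨x, x1, x2⟩, ⟨y, y1, y2⟩⟩ ⟨⟨x', x1', x2'⟩, ⟨y', y1', y2'⟩⟩ e
  dsimp only at e
  have e1 : B z y = B z y' := by simpa [x1, y1, x1', y1', hz] using congrArg (B u) e
  rw [e1, add_left_inj] at e
  have e2 : x - x' = θ • (y' - y) := by linear_combination (norm := module) e
  have e3 := (F ∙ u).sub_mem ((F ∙ u).sub_mem x2 x2')
    ((F ∙ u).smul_mem (τ θ) ((F ∙ u).sub_mem y2' y2))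
  have e4 := congrArg Γ e2
  rw [s.smul, map_sub, map_sub] at e4
  rw [show a • Γ x + x - (a • Γ x' + x') - τ θ • (a • Γ y' + y' - (a • Γ y + y)) =
    (θ - τ θ) • (y' - y) by linear_combination (norm := module) a • e4 + e2,
    Submodule.smul_mem_iff _ (sub_ne_zero.2 hθ.symm)] at e3
  obtain ⟨r, hr⟩ := Submodule.mem_span_singleton.1 e3
  have r0 : r = 0 := by simpa [e1, h.symm z u, hz] using congrArg (B z) hr
  rw [r0, zero_smul] at hr
  rw [← hr, smul_zero, sub_eq_zero] at e2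
  rw [eq_comm, sub_eq_zero] at hr
  subst e2 hr
  rfl

theorem D_mul (h : Mo B) {u w : M} (k : B u w = 0) {a b : sIsom B}
    (ha : ∀ y ∈ orth B (l2 F u w), lin a y - y ∈ l2 F u w)
    (hb : ∀ y ∈ orth B (l2 F u w), lin b y - y ∈ l2 F u w) :
    ∀ y ∈ orth B (l2 F u w), lin (a * b) y - y ∈ l2 F u w := fun y hy => by
  have h1 : lin b y ∈ orth B (l2 F u w) := by
    simpa using add_mem (l_orth h k (hb y hy)) hy
  simpa [lin_mul] using add_mem (ha _ h1) (hb y hy)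

theorem TT_Q (h : Mo B) {u w x : M} (k : P2 B u w) (e : tT B x 1 * tT B w 1 ∈ Qu B u) :
    ∃ a : F, x = w + a • u := by
  obtain ⟨z, z1, z2⟩ := h.dual2 k.ne k.not_mem 0 1
  obtain ⟨a, ha⟩ := Submodule.mem_span_singleton.1 (core h z2
    (fun p hp => ⟨perp k.uw hp, perp z1 hp⟩) k.not_mem (e.2 z (h.mem_orth1.2 z1)))
  exact ⟨a, by rw [ha, add_comm x, ← add_assoc, h.vadd_self, zero_add]⟩

end A2

open A2

theorem Mo.cQ (h : Mo B) {u : M} (u0 : u ≠ 0) {α : MulAut (sIsom B)}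
    (k : ∀ y c, B u y = 0 → ∃ d, α (ee B u y c) = ee B u y d) : ∃ v ∈ Qu B u, α = MulAut.conj v := by
  obtain ⟨Γ, s⟩ := h.semi α
  obtain ⟨d, hd⟩ := k 0 1 (map_zero _)
  rw [h.ee_zero', h.ee_zero', h.semi_tT s, map_one] at hd
  obtain ⟨a, a0, ha, -⟩ := h.tT_dep (by simpa using u0) one_ne_zero hd
  have hb : Γ u = a⁻¹ • u := by
    conv_rhs => rw [ha, inv_smul_smul₀ a0]
  have h1 : ∀ y, B u y = 0 → a⁻¹ • Γ y + y ∈ F ∙ u := fun y hy => by
    obtain ⟨d, e⟩ := k y 0 hy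
    have h1 : B u (Γ y) = 0 := by
      conv_lhs => rw [ha]
      rw [map_smul, LinearMap.smul_apply, s.form, hy, map_zero, smul_zero]
    rw [h.semi_ee s hy, hb, h.ee_smul h1] at e
    exact ((h.ee_inj u0 (by rw [map_smul, h1, smul_zero]) hy).1 e).1
  obtain ⟨y, z, y1, -, z1, -, yz, hy, -⟩ := h.hyp2 (h.alt u) one_ne_zero
  have h2 := tau s (fun hc => hy (le_l u u hc)) fun c => h1 _ (by rw [map_smul, y1, smul_zero])
  have h3 : a⁻¹ = 1 := h.sq_inj (by
    obtain ⟨r, hr⟩ := Submodule.mem_span_singleton.1 (h1 y y1)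
    obtain ⟨r', hr'⟩ := Submodule.mem_span_singleton.1 (h1 z z1)
    have e : B (a⁻¹ • Γ y) (a⁻¹ • Γ z) = B (r • u - y) (r' • u - z) := by
      rw [hr, hr', add_sub_cancel_right, add_sub_cancel_right]
    simpa [s.form, yz, h.alt, z1, h.swap y1] using e)
  obtain ⟨l, e1, e2⟩ := h.semi_lin (h2 ▸ s)
  rw [h3] at hb h1
  refine ⟨l, inQ h (by rw [e2, hb, one_smul]) fun x hx => ?_, e1⟩
  simpa only [one_smul, e2] using h1 x hx

theorem Mo.cT (h : Mo B) {W : Submodule F M} (hW : orth B W ≠ ⊥) {α : MulAut (sIsom B)}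
    (k : ∀ y ∈ orth B W, α (tT B y 1) = tT B y 1) : ∃ v ∈ VW B W, α = MulAut.conj v := by
  obtain ⟨Γ, s⟩ := h.semi α
  have h1 : ∀ y ∈ orth B W, Γ y = y := fun y hy => h.tT_inj' (by
    have := k y hy
    rwa [h.semi_tT s, map_one] at this)
  obtain ⟨y, hy, y0⟩ := Submodule.exists_mem_ne_zero_of_ne_bot hW
  have h2 := tau s (W := ⊥) (b := 1) y0 fun c => by
    rw [one_smul, h1 _ (Submodule.smul_mem _ c hy), h.vadd_self]
    exact zero_mem _
  obtain ⟨l, e1, e2⟩ := h.semi_lin (h2 ▸ s)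
  exact ⟨l, h.VW_eq W ▸ fun y hy => (e2 y).trans (h1 y hy), e1⟩

theorem Mo.nQ (h : Mo B) {u : M} (u0 : u ≠ 0) {α : MulAut (sIsom B)} {Γ : M ≃+ M} {τ : F ≃+* F}
    (k : Semi α Γ τ) (e : mp α (Qu B u) ≤ Qu B u) : ∃ a : F, a ≠ 0 ∧ Γ u = a • u := by
  have e1 := k.span {u}
  rw [Set.image_singleton] at e1
  rw [(k.sub e1).2.2.2.1] at e
  have h0 : Γ u ≠ 0 := by simpa using u0
  obtain ⟨a, ha⟩ := Submodule.mem_span_singleton.1 (h.Q_inj h0 e)
  exact ⟨a, left_ne_zero_of_smul (ha ▸ h0), ha.symm⟩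

theorem Mo.rf (h : Mo B) {u : M} (u0 : u ≠ 0) {α : MulAut (sIsom B)} (h1 : α * α = 1)
    (h2 : mp α (Qu B u) ≤ Qu B u)
    (h3 : Nat.card F ^ (2 * kk F M - 2) ≤ Nat.card ↥(Qu B u ⊓ Cf α)) :
    ∃ y, B u y = 0 ∧ ∀ v ∈ Qu B u, α v = tT B y 1 * v * (tT B y 1)⁻¹ := by
  obtain ⟨Γ, s⟩ := h.semi α
  obtain ⟨a, a0, ha⟩ := h.nQ u0 s h2
  have h4 := h3.trans (card_le h u0 s a0 ha)
  have q2 := h.two_le
  have k3 := h.three_le
  have h5 : fa α = 1 := by
    by_contra hc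
    have := (Nat.pow_le_pow_left h4 2).trans (field h u0 s a hc)
    rw [← pow_mul, Nat.pow_le_pow_iff_right (by omega)] at this
    omega
  obtain ⟨l, rfl, e⟩ := h.semi_lin (h5 ▸ s)
  have ll : l * l = 1 := h.conj_inj (by rw [map_mul, h1, map_one])
  have lu : lin l u = u := h.tw_fix (.of_sq ll) ((e u).trans ha)
  obtain rfl : a = 1 := smul_left_injective F u0 (by simp only [← ha, ← e, lu, one_smul])
  have lp : ∀ x, B u x = 0 → B u (lin l x) = 0 := fun x hx => by rw [← hx, ← lin_isom l u x, lu]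
  suffices ∃ y, B u y = 0 ∧ ∀ x, B u x = 0 → lin l x + (x + B y x • y) ∈ F ∙ u by
    obtain ⟨y, hy, k⟩ := this
    refine ⟨y, hy, fun v hv => ?_⟩
    obtain ⟨x, c, hx, rfl⟩ := (h.mem_Q u0).1 hv
    rw [MulAut.conj_apply, h.ee_conj _ hx, h.ee_conj _ hx, lu, h.lin_tT, h.lin_tT, h.swap hy,
      mul_zero, zero_smul, add_zero, one_mul]
    exact (h.ee_inj u0 (lp x hx) (by simp [hx, hy])).2 ⟨k x hx, rfl⟩
  by_cases hc : ∀ x, B u x = 0 → lin l x + x ∈ F ∙ u
  · exact ⟨0, map_zero _, by simpa using hc⟩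
  push Not at hc
  obtain ⟨x₀, x1, x2⟩ := hc
  let S : Submodule F M :=
    { carrier := {x | B u x = 0 ∧ lin l x + x ∈ F ∙ u}
      zero_mem' := by simp
      add_mem' := fun {x y} hx hy => ⟨by rw [map_add, hx.1, hy.1, add_zero], by
        rw [map_add, add_add_add_comm]; exact add_mem hx.2 hy.2⟩
      smul_mem' := fun c x hx => ⟨by rw [map_smul, hx.1, smul_zero], by
        rw [map_smul, ← smul_add]; exact Submodule.smul_mem _ c hx.2⟩ }
  have h6 : Nat.card F ^ (2 * kk F M - 2) ≤ Nat.card S := by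
    simp only [one_smul, ← e] at h4
    exact h4
  rw [Module.natCard_eq_pow_finrank (K := F) (V := S), Nat.pow_le_pow_iff_right (by omega)] at h6
  have h7 := h.cls.finrank_orth S
  have h8 : ∀ x, B u x = 0 → lin l x + x ∈ orth B S := fun x hx => mem_orth.2 fun y hy => by
    rw [← sym h ll, perp hx hy.2]
  have k : P2 B u (lin l x₀ + x₀) := P2.iff.2 ⟨by rw [map_add, lp _ x1, x1, add_zero], u0, x2⟩
  generalize hw : lin l x₀ + x₀ = w at k
  have h9 : l2 F u w = orth B S := Submodule.eq_of_le_of_finrank_le (Submodule.span_le.2 (by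
    rintro y (rfl | rfl)
    exacts [mem_orth.2 fun y hy => h.swap hy.1, hw ▸ h8 _ x1])) (by
      have := h.rank_eq
      rw [k.rank]; omega)
  rw [← h9] at h8
  obtain ⟨z, z1, z2⟩ := h.dual2 u0 k.not_mem 0 1
  obtain ⟨r, d, hd⟩ := Submodule.mem_span_pair.1 (h8 z z1)
  obtain ⟨c, rfl⟩ := h.exists_sq d
  refine ⟨c • w, by rw [map_smul, k.uw, smul_zero], fun x hx => ?_⟩
  obtain ⟨r', d', hd'⟩ := Submodule.mem_span_pair.1 (h8 x hx)
  have := sym h ll x z
  rw [← hd, ← hd'] at this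
  simp only [map_add, map_smul, LinearMap.add_apply, LinearMap.smul_apply, smul_eq_mul, z1, z2,
    h.swap hx, h.symm x w] at this
  refine Submodule.mem_span_singleton.2 ⟨r', ?_⟩
  rw [← add_assoc, ← hd', map_smul, LinearMap.smul_apply, smul_eq_mul]
  match_scalars
  · ring
  · linear_combination -this - (c * c * B w x) * h.two

theorem Mo.act2 (h : Mo B) {u w : M} (k : P2 B u w) {α : MulAut (sIsom B)} (h1 : α * α = 1)
    (h2 : ∀ g ∈ Fx B (l2 F u w), α g * g⁻¹ ∈ BV B u w) :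
    ∃ l, α = MulAut.conj l ∧ (l ∈ Qu B u ∨ l ∈ BV B u w) := by
  obtain ⟨l, rfl, e⟩ := md h k (α := α) (le_l u w) fun y hy => by
    have := ((h.mem_BV' k).1 (h2 _ (h.tT_mem_Fx hy 1))).2
    rwa [inv_eq_of_mul_eq_one_right (h.tT_sq y 1)] at this
  have ll : l * l = 1 := h.conj_inj (by rw [map_mul, h1, map_one])
  obtain ⟨a, ha⟩ := Submodule.mem_span_singleton.1 (e u (l_orth h k.uw (ul u w)))
  obtain ⟨b, hb⟩ := Submodule.mem_span_singleton.1 (e w (l_orth h k.uw (wl u w)))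
  have lu : lin l u = u := h.tw_fix (.of_sq ll) (a := a - 1) (by rw [sub_smul, ha]; simp)
  refine ⟨l, rfl, ?_⟩
  by_cases b0 : b = 0
  · refine .inr ((h.mem_BV' k).2 ⟨mem_Fx2.2 ⟨lu, ?_⟩, fun z hz => h.vsub _ _ ▸ e z hz⟩)
    rw [← sub_eq_zero, h.vsub, ← hb, b0, zero_smul]
  refine .inl (inQ h lu fun x hx => ?_)
  have h3 : lin l x + x ∈ l2 F u w := h.orth_orth (l2 F u w) ▸ mem_orth.2 fun y hy => by
    rw [← sym h ll, perp hx (e y hy)]
  obtain ⟨r, d, hd⟩ := Submodule.mem_span_pair.1 h3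
  have h4 := congrArg (lin l) hd
  rw [map_add, map_add, map_smul, map_smul, ← lin_mul, ll, lu, add_comm _ (lin l x)] at h4
  have h5 : (d * b) • u = 0 := by
    rw [mul_smul, hb, smul_add, ← h.vsub, sub_eq_zero]
    exact add_left_cancel (h4.trans hd.symm)
  rw [smul_eq_zero, mul_eq_zero, or_iff_left k.ne, or_iff_left b0] at h5
  exact Submodule.mem_span_singleton.2 ⟨r, by rw [← hd, h5, zero_smul, add_zero]⟩

theorem Mo.act3 (h : Mo B) {u w : M} (k : P2 B u w) {α : MulAut (sIsom B)}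
    (h1 : ∀ y ∈ orth B (l2 F u w), ∀ c, α (tT B y c) * tT B y c ∈ QW B (l2 F u w))
    (h2 : α (tT B u 1) * tT B u 1 ∈ Qu B w) (h3 : α⁻¹ (tT B w 1) * tT B w 1 ∈ Qu B u) :
    ∃ a ∈ Qu B w, ∃ b ∈ Qu B u, α = MulAut.conj (a * b) := by
  obtain ⟨l, rfl, e⟩ := md h k (α := α) le_rfl fun y hy => (h1 y hy 1).2
  rw [← map_inv] at h3
  rw [MulAut.conj_apply, h.tT_conj] at h2 h3
  have k' := k.symm h
  obtain ⟨a, ha⟩ := TT_Q h k' h2
  obtain ⟨b, hb⟩ := TT_Q h k h3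
  obtain ⟨p, p1, p2⟩ := h.dual2 k.ne k.not_mem 0 b
  obtain ⟨p', p1', p2'⟩ := h.dual2 k'.ne k'.not_mem 0 a
  have hv := h.tE_mem_Q p1
  have hv' := h.tE_mem_Q p1'
  have hQ : (tE B w p')⁻¹ * l * tE B u p ∈ QW B (l2 F u w) := by
    refine ⟨mem_Fx2.2 ⟨?_, ?_⟩, D_mul h k.uw (D_mul h k.uw (fun y hy => le_l' u w
      ((inv_mem hv').2 y (h.mem_orth1.2 (h.mem_orth2.1 hy).2))) fun y hy => h.vsub _ _ ▸ e y hy)
      fun y hy => le_l u w (hv.2 y (h.mem_orth1.2 (h.mem_orth2.1 hy).1))⟩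
    · have : lin l u = lin (tE B w p') u := by
        rw [ha, h.lin_tE p1', k'.uw, h.symm p', p2', zero_smul, add_zero]
      rw [lin_mul, lin_mul, hv.1 u (Submodule.mem_span_singleton_self u), this, lin_inv_lin]
    · have : lin (tE B u p) w = lin l⁻¹ w := by
        rw [hb, h.lin_tE p1, k.uw, h.symm p, p2, zero_smul, add_zero]
      rw [lin_mul, lin_mul, this, lin_lin_inv, (inv_mem hv').1 w (Submodule.mem_span_singleton_self w)]
  obtain ⟨x, y, c, d, hx, hy, e1⟩ := h.Q_l2 k hQ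
  refine ⟨_, mul_mem hv' (h.ee_mem_Q (h.mem_orth2.1 hy).2 d), _,
    mul_mem (h.ee_mem_Q (h.mem_orth2.1 hx).1 c) (inv_mem hv), congrArg _ ?_⟩
  rw [mul_assoc, ← mul_assoc (ee B w y d), ← e1]
  group

end Cfsg.Lib.SPN
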