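import Cfsg.Agent.SPN.K1
import Cfsg.Agent.SPN.K4
import Cfsg.Agent.SPN.KIT
import Cfsg.Agent.SPN.P1a

/-!
# Standard subgroups of type `Sp_{2k}(2ⁿ)`: an equivariant family of good long translations
-/

set_option autoImplicit false
set_option linter.unusedSectionVars false

namespace Cfsg.Lib.SPN

open Subgroup Module Cfsg.Lib.Trans Cfsg.Lib.Gold Cfsg.Lib.Class.Form Cfsg.Lib.Class.FAut
open Cfsg.Lib.UM (tT tE VW RR Fx St QW Cf mp Semi fa Mp cx re Ot kk Mx Fr3)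
open Cfsg.Lib.SG2 (Uq Top)
open Cfsg.Lib.Comp (Tw)
open scoped commutatorElement

variable {G F M : Type*} [Group G] [Finite G] [Field F] [Finite F] [AddCommGroup M] [Module F M]
  [FiniteDimensional F M] {B : M →ₗ[F] M →ₗ[F] F} {φ φ' : sIsom B →* G} {t : G} {κ β : F}
  {H : M → M → G}

namespace P8d

theorem cm {d : G} {A : Subgroup (sIsom B)} (k : d ∈ Cs (A.map φ)) {g : sIsom B} (hg : g ∈ A) :
    Commute d (φ g) := (mem_Cs.1 k _ (mem_map_of_mem φ hg)).symm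

theorem mkC {d : G} {A : Subgroup (sIsom B)} (k : ∀ g ∈ A, Commute d (φ g)) : d ∈ Cs (A.map φ) :=
  mem_Cs.2 (by rintro _ ⟨g, hg, rfl⟩; exact (k g hg).symm)

theorem mT (h : Mo B) {u y : M} (e : B u y = 0) (c : F) : tT B y c ∈ Pu B u :=
  h.tT_mem_Fx (h.mem_orth1.2 e) c

theorem sq_t (h : H1 φ t) {d : G} {u : M} (k : GD φ t H d u) : Commute (d * d) t :=
  mul_inv_eq_iff_eq_mul.1 (by
    rw [show d * d * t * (d * d)⁻¹ = d * (d * t * d⁻¹) * d⁻¹ by group, k.tr, ← conj_mul, k.tr,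
      (cm k.cp (mT h.toMo (h.alt u) 1)).mul_inv_cancel, mul_assoc, ← map_mul, h.toMo.tT_sq, map_one,
      mul_one])

theorem two (h : H1 φ t) {d : G} {u : M} (k : GD φ t H d u) : ∃ d', GD φ t H d' u ∧ Tw d' := by
  obtain ⟨s, n, ⟨j, rfl⟩, e⟩ := Nat.exists_eq_two_pow_mul_odd (orderOf_pos d).ne'
  refine ⟨d ^ (2 * j + 1), ⟨pow_mem k.cp _, ?_, fun x => (k.cH x).pow_left _⟩,
    s, by rw [← pow_mul, mul_comm, ← e, pow_orderOf_eq_one]⟩
  rw [pow_succ', pow_mul, pow_two, mul_assoc d, ((sq_t h k).pow_left j).eq, ← k.tr]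
  group

theorem cj (h : TH0 φ t H κ β) {d : G} {u : M} (k : GD φ t H d u) (g : sIsom B) :
    GD φ t H (φ g * d * (φ g)⁻¹) (lin g u) := by
  refine ⟨mkC fun p hp => ?_, ?_, fun x => ?_⟩
  · have := (cm k.cp (g := g⁻¹ * p * g) (UM.mem_Fx1.2 (by
      rw [lin_mul, lin_mul, UM.mem_Fx1.1 hp, lin_inv_lin]))).conj (φ g)
    simpa [mul_assoc] using this
  · calc _ = φ g * (d * ((φ g)⁻¹ * t * φ g) * d⁻¹) * (φ g)⁻¹ := by group
      _ = _ := by
        rw [mul_assoc _ t, (h.tc g).eq, inv_mul_cancel_left, k.tr, h.toHyp.conj_t, h.toMo.tT_conj]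
  · simpa only [h.eqv, lin_lin_inv] using (k.cH (lin g⁻¹ x)).conj (φ g)

end P8d

open P8d in
theorem TH0.gfam (h : TH0 φ t H κ β) {d : G} {u : M} (u0 : u ≠ 0) (k : GD φ t H d u) :
    ∃ (D : M → G) (ω : F), (∀ u, u ≠ 0 → GD φ t H (D u) u ∧ D u ∈ Cs (Ot φ t) ∧
      D u * D u = φ (tT B u ω)) ∧ D 0 = 1 ∧ ∀ g u, φ g * D u * (φ g)⁻¹ = D (lin g u) := by
  classical
  have m := h.toMo
  have h1 := h.toH1
  obtain ⟨d, k, d2⟩ := two h1 k
  have LO : ∀ g, φ g ∈ Cs (Ot φ t) := fun g => L_le_Cs_Ot ⟨g, rfl⟩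
  obtain ⟨ω, e⟩ : ∃ ω, d * d = φ (tT B u ω) := by
    obtain ⟨v, hv, o, ho, e⟩ := h1.cF (m.ti1 u) (sq_t h1 k) (mul_mem k.cp k.cp)
    obtain ⟨ω, rfl⟩ := m.mem_RR.1 hv
    have v2 : φ (tT B u ω) * φ (tT B u ω) = 1 := by rw [← map_mul, m.tT_sq, map_one]
    have dd : Tw (d * d) := let ⟨l, e⟩ := d2; ⟨l, by rw [(Commute.refl d).mul_pow, e, mul_one]⟩
    rcases e with e | e
    · exact ⟨ω, by rw [e, Ot_kill (LO _) ho (.of_sq v2) (e ▸ dd), mul_one]⟩
    · rw [Ot_kill (mul_mem t_mem_Cs_Ot (LO _)) ho (.of_sq (by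
        rw [(h.tc _).symm.mul_mul_mul_comm, h.t2, v2, one_mul])) (e ▸ dd), mul_one] at e
      have c := (e ▸ (Commute.refl d).mul_right (.refl d)).mul_right
        (cm k.cp (mT m (h.alt u) ω)).inv_right
      have e1 := k.tr
      rw [mul_inv_cancel_right] at c
      rw [c.mul_inv_cancel, left_eq_mul, ← map_one φ] at e1
      exact (m.tT_ne u0 one_ne_zero (h.inj e1)).elim
  have nO := h1.nO (m.ti1 u) k.cp (m.tT_mem (Submodule.mem_span_singleton_self u) 1) k.tr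
  choose! g hg using fun w (hw : w ≠ 0) => m.tr1 u0 hw
  obtain ⟨D, D0, hD⟩ : ∃ D : M → G, D 0 = 1 ∧ ∀ a, D (lin a u) = φ a * d * (φ a)⁻¹ := by
    refine ⟨fun w => if w = 0 then 1 else φ (g w) * d * (φ (g w))⁻¹, if_pos rfl, fun a => ?_⟩
    have a0 : lin a u ≠ 0 := by simpa using u0
    have := cm k.cp (g := a⁻¹ * g (lin a u)) (UM.mem_Fx1.2 (by rw [lin_mul, hg _ a0, lin_inv_lin]))
    refine (if_neg a0).trans ?_
    conv_rhs => rw [← this.symm.mul_inv_cancel, map_mul, map_inv]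
    group
  have gd : ∀ w, w ≠ 0 → GD φ t H (D w) w := fun w w0 => by
    rw [← hg w w0, hD]; exact cj h k _
  have aO : ∀ w, w ≠ 0 → ∀ y ∈ Ot φ t, D w * y * (D w)⁻¹ = d * y * d⁻¹ := fun w w0 y hy => by
    rw [← hg w w0, hD]
    calc _ = φ (g w) * (d * ((φ (g w))⁻¹ * (y * φ (g w))) * d⁻¹) * (φ (g w))⁻¹ := by group
      _ = _ := by
        rw [(Ot_comm hy _).eq, inv_mul_cancel_left,
          (Ot_comm (mem_normalizer_conj nO hy) _).symm.mul_inv_cancel]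
  have dO : d ∈ Cs (Ot φ t) := by
    obtain ⟨y, p⟩ := m.ext2 u0
    have s0 : u + y ≠ 0 := by simpa [add_comm] using (p.add m 1).ne'
    have yu := m.swap p.uw
    have E1 : ∀ w, B w y = 0 → B w u = 0 → tE B y u ∈ Pu B w := fun w a b =>
      m.tE_mem_Fx yu (m.mem_orth1.2 a) (m.mem_orth1.2 b)
    have e1 : D u * D y * H y u * t * (D u * D y * H y u)⁻¹ = D (u + y) * t * (D (u + y))⁻¹ := by
      rw [show ∀ a b c : G, a * b * c * t * (a * b * c)⁻¹ = a * (b * (c * t * c⁻¹) * b⁻¹) * a⁻¹ from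
        fun _ _ _ => by group, h.ht _ _ yu, ← conj_mul (a := t), (gd y p.ne').tr,
        (cm (gd y p.ne').cp (E1 y (h.alt y) yu)).mul_inv_cancel, ← conj_mul, ← conj_mul, (gd u u0).tr,
        (cm (gd u u0).cp (E1 u p.uw (h.alt u))).mul_inv_cancel,
        (cm (gd u u0).cp (mT m p.uw 1)).mul_inv_cancel, (gd _ s0).tr, m.tT_vadd p.uw, one_smul,
        m.tE_comm yu, map_mul, map_mul, ← mul_assoc, ← mul_assoc]
    obtain ⟨z, hz, o, ho, e2⟩ : ∃ z ∈ Cs (Ot φ t), ∃ o ∈ Ot φ t,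
        (D u * D y * H y u)⁻¹ * D (u + y) = z * o := by
      obtain ⟨v, -, o, ho, e2 | e2⟩ := h1.cF (m.ti2 p.uw) (c := (D u * D y * H y u)⁻¹ * D (u + y))
        (by
          generalize D u * D y * H y u = a at e1
          rw [Commute, SemiconjBy, mul_assoc, mul_inv_eq_iff_eq_mul.1 e1.symm]; group)
        (mkC fun a ha => by
          obtain ⟨a1, a2⟩ := mem_Fx2.1 ha
          exact (((cm (gd u u0).cp (UM.mem_Fx1.2 a1)).mul_left
            (cm (gd y p.ne').cp (UM.mem_Fx1.2 a2))).mul_left (.symm (mul_inv_eq_iff_eq_mul.1 (by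
              rw [h.eqv, a1, a2])))).inv_left.mul_left
            (cm (gd _ s0).cp (UM.mem_Fx1.2 (by rw [map_add, a1, a2]))))
      exacts [⟨_, LO v, o, ho, e2⟩, ⟨_, mul_mem t_mem_Cs_Ot (LO v), o, ho, e2⟩]
    have cs : ∀ {a : G}, a ∈ Cs (Ot φ t) → ∀ y ∈ Ot φ t, a * y * a⁻¹ = y := fun ha y hy => by
      rw [← mem_Cs.1 ha y hy, mul_inv_cancel_right]
    have e3 : ∀ x ∈ Ot φ t, d * x * d⁻¹ = o * x * o⁻¹ := fun x hx => by
      have x1 := mul_mem (mul_mem ho hx) (inv_mem ho)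
      rw [← aO _ s0 x hx, inv_mul_eq_iff_eq_mul.1 e2]
      calc _ = D u * (D y * (H y u * (z * (o * x * o⁻¹) * z⁻¹) * (H y u)⁻¹) * (D y)⁻¹) * (D u)⁻¹ := by
            group
        _ = d * d * (o * x * o⁻¹) * (d * d)⁻¹ := by
            rw [cs hz _ x1, cs (h.cO _ _) _ x1, aO _ p.ne' _ x1, aO _ u0 _ (mem_normalizer_conj nO x1)]
            group
        _ = _ := cs (e ▸ LO _) _ x1
    refine mem_Cs.2 fun x hx => ?_
    have c : Commute (o ^ 2) x := mul_inv_eq_iff_eq_mul.1 (by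
      conv_rhs => rw [← cs (e ▸ LO _ : d * d ∈ _) x hx]
      rw [show d * d * x * (d * d)⁻¹ = d * (d * x * d⁻¹) * d⁻¹ by group, e3 x hx,
        e3 _ (mul_mem (mul_mem ho hx) (inv_mem ho)), pow_two]
      group)
    obtain ⟨n, hn⟩ := exists_pow_eq_self_of_coprime (Nat.coprime_two_left.2 (odd_Ot ho))
    have c' := c.pow_left n
    rw [hn] at c'
    rw [eq_comm, ← mul_inv_eq_iff_eq_mul, e3 x hx, c'.mul_inv_cancel]
  refine ⟨D, ω, fun w w0 => ⟨gd w w0, ?_, ?_⟩, D0, fun a w => ?_⟩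
  · rw [← hg w w0, hD]; exact mul_mem (mul_mem (LO _) dO) (inv_mem (LO _))
  · rw [← hg w w0, hD, conj_mul, e, ← m.tT_conj, map_mul, map_mul, map_inv]
  · by_cases w0 : w = 0
    · simp [w0, D0]
    · rw [← hg w w0, ← lin_mul, hD, hD, map_mul]; group

end Cfsg.Lib.SPN
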