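import Cfsg.Agent.SPN.P1a
import Cfsg.Agent.SPN.P2d
import Cfsg.Agent.SPN.P3k
import Cfsg.Agent.SPN.K4

/-!
# Standard subgroups of type `Sp_{2k}(2ⁿ)`: `R_u` is normal in `N(E_u)` or short translations exist
-/

set_option autoImplicit false
set_option linter.unusedSectionVars false

namespace Cfsg.Lib.SPN

open Subgroup Module Cfsg.Lib.Trans Cfsg.Lib.Gold Cfsg.Lib.Class.Form Cfsg.Lib.Class.FAut
open Cfsg.Lib.UM (tT tE VW RR Fx St QW Cf mp Semi fa Mp cx re Ot kk Mx Fr3)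
open Cfsg.Lib.SG2 (Uq Top)
open Cfsg.Lib.Comp (Tw)
open scoped commutatorElement

variable {G F M : Type*} [Group G] [Finite G] [Field F] [Finite F] [AddCommGroup M] [Module F M]
  [FiniteDimensional F M] {B : M →ₗ[F] M →ₗ[F] F} {φ φ' : sIsom B →* G} {t : G}

namespace P3n

variable {u x : M}

theorem cas (u0 : u ≠ 0) (k : B u x = 0) : P2 B u x ∨ ∃ a : F, x = a • u := by
  by_contra! hn
  exact hn.1 (P2.iff.2 ⟨k, u0, fun e =>
    let ⟨a, e⟩ := Submodule.mem_span_singleton.1 e; hn.2 a e.symm⟩)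

theorem tn (h : H1 φ t) (u0 : u ≠ 0) {s : G} (hs : s ∈ AA φ t (Qu B u)) (e : IsConj t s) :
    ∃ v ∈ Qu B u, s = t * φ v := by
  obtain ⟨v, hv, rfl | rfl⟩ := h.toHyp.mem_AA.1 hs
  exacts [absurd e (h.nQ u0 hv), ⟨v, hv, rfl⟩]

theorem cls (h : H1 φ t) (k : NA φ t) (u0 : u ≠ 0) {s : G} (hs : s ∈ AA φ t (Qu B u))
    (e : IsConj t s) : ∃ x, B u x = 0 ∧ s = t * φ (ee B u x 0) := by
  obtain ⟨v, hv, rfl⟩ := tn h u0 hs e
  obtain ⟨x, c, hx, rfl⟩ := (h.toMo.mem_Q u0).1 hv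
  obtain rfl : c = 0 := by
    by_contra c0
    rcases cas u0 hx with e' | ⟨a, rfl⟩
    · exact k.nc' h e' c0 e
    · exact k.nb u u0 (h.all_T u0 u0 c0 one_ne_zero (h.toMo.ee_self u a c ▸ e))
  exact ⟨x, hx, rfl⟩

theorem all (h : H2 φ t) (u0 : u ≠ 0) (k : B u x = 0) :
    t * φ (ee B u x 0) ∈ AA φ t (Qu B u) ∧ IsConj t (t * φ (ee B u x 0)) := by
  refine ⟨h.toHyp.mem_AA.2 ⟨_, h.toMo.ee_mem_Q k 0, .inr rfl⟩, ?_⟩
  rcases cas u0 k with e | ⟨a, rfl⟩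
  · rw [h.toMo.ee_zero]; exact h.ha u x e
  · rw [h.toMo.ee_self, h.toMo.tT_zero, map_one, mul_one]

theorem tt (h : Hyp φ t) (a b : sIsom B) : t * φ a * (t * φ b) = φ (a * b) := by
  rw [(h.tc a).eq, mul_assoc, ← mul_assoc t, h.t2, one_mul, map_mul]

end P3n

open P3n in
theorem H2.or (h : H2 φ t) {u : M} (u0 : u ≠ 0) :
    Ns (AA φ t (Qu B u)) ≤ Ns ((RR B u).map φ) ∨ ∀ x, B u x = 0 → ∃ n c, KK φ t n u x c := by
  have m := h.toMo
  have h1 := h.toH1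
  obtain ⟨w, kw⟩ := m.ext2 u0
  have NQ := h1.NsQ kw (c := 0) (by rw [m.ee_zero]; exact h.ha u w kw)
  refine or_iff_not_imp_left.2 fun hn => ?_
  obtain ⟨n, hn, c, x, d, k, c0, e⟩ : ∃ n ∈ Ns (AA φ t (Qu B u)), ∃ c x d, P2 B u x ∧ c ≠ 0 ∧
      n * φ (tT B u c) * n⁻¹ = φ (ee B u x d) := by
    by_contra! h2
    refine hn fun n hn => Comp.mem_Ns_of ?_
    rintro _ ⟨r, hr, rfl⟩
    obtain ⟨c, rfl⟩ := m.mem_RR.1 hr
    by_cases c0 : c = 0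
    · rw [c0, m.tT_zero, map_one, mul_one, mul_inv_cancel]; exact one_mem _
    obtain ⟨v, hv, e⟩ := mem_normalizer_conj (NQ hn) (mem_map_of_mem φ (m.tT_mem_Q u c))
    obtain ⟨x, d, hx, rfl⟩ := (m.mem_Q u0).1 hv
    rcases P3n.cas u0 hx with k | ⟨a, rfl⟩
    · exact absurd e.symm (h2 n hn c x d k c0)
    · exact ⟨_, m.mem_RR.2 ⟨d, m.ee_self u a d⟩, e⟩
  rcases h.cas with hA | hA
  · obtain ⟨p, p1, p2⟩ := m.dual2 u0 k.not_mem 0 d
    have p3 : B u (p + x) = 0 := by rw [map_add, p1, k.uw, add_zero]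
    have cj : ∀ {y}, B u y = 0 → ∃ z, B u z = 0 ∧
        n⁻¹ * (t * φ (ee B u y 0)) * n⁻¹⁻¹ = t * φ (ee B u z 0) := fun hy =>
      cls h1 hA u0 (mem_normalizer_conj (inv_mem hn) (all h u0 hy).1)
        ((all h u0 hy).2.trans (isConj_iff.2 ⟨_, rfl⟩))
    obtain ⟨y, hy, e1⟩ := cj p1
    obtain ⟨z, hz, e2⟩ := cj p3
    have e3 := congrArg₂ (· * ·) e1 e2
    simp only [conj_mul, tt h.toHyp] at e3
    rw [m.ee_mul p1 p3, ← add_assoc, m.vadd_self, zero_add, map_add, m.alt, m.symm p x, p2,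
      add_zero, zero_add, zero_add, ← e, m.ee_mul hy hz, add_zero, zero_add, inv_inv,
      show n⁻¹ * (n * φ (tT B u c) * n⁻¹) * n = φ (tT B u c) by group, ← m.ee_zero'] at e3
    obtain ⟨e4, e5⟩ := (m.ee_inj u0 (map_zero _) (by rw [map_add, hy, hz, add_zero])).1 (h.inj e3)
    obtain ⟨a, e4⟩ := Submodule.mem_span_singleton.1 e4
    refine absurd ?_ c0
    have e6 := congrArg (B y) e4
    rw [map_smul, m.swap hy, smul_zero, zero_add, map_add, m.alt, zero_add] at e6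
    exact e5.trans e6.symm
  · obtain ⟨a, a2, ea⟩ := m.tT_sqrt u c
    have a0 : a ≠ 0 := fun e => c0 (by rw [← a2, e, mul_zero])
    obtain ⟨s, hs⟩ := hA (a • u) (smul_ne_zero a0 u0)
    have s1 := hs.cq
    have s2 := hs.tr
    rw [Qu, span_smul1 u a0] at s1
    rw [← ea] at s2
    obtain ⟨v, hv, e1⟩ := tn h1 u0 (mem_normalizer_conj (inv_mem hn)
      (mem_sup_left (mem_zpowers t))) (isConj_iff.2 ⟨_, rfl⟩)
    have s3 := mem_normalizer_conj (mem_Ns_Cs (NQ hn)) s1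
    have K : KK φ t (n * s * n⁻¹) u x d := ⟨by
      rw [← e, show n * s * n⁻¹ * t * (n * s * n⁻¹)⁻¹ = n * (s * (n⁻¹ * t * n⁻¹⁻¹) * s⁻¹) * n⁻¹ by
        group, e1, ← conj_mul (b := s), s2, Comp.conj_eq_of_comm (mem_Cs.1 s1 _ (mem_map_of_mem φ hv)).symm,
        mul_assoc t, ← map_mul, (m.comm_Q u0 (m.tT_mem_Q u c) hv).eq, map_mul, ← mul_assoc t, ← e1]
      group, fun y hy c' =>
        ⟨c', Comp.conj_eq_of_comm (mem_Cs.1 s3 _ (mem_map_of_mem φ (m.ee_mem_Q hy c'))).symm⟩⟩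
    intro y hy
    rcases P3n.cas u0 hy with k' | ⟨b, rfl⟩
    · obtain ⟨g, g1, g2⟩ := m.tr2 k k'
      have := K.cj h1 k.uw g
      rw [g1, g2] at this
      exact ⟨_, _, this⟩
    · exact ⟨1, 0, by rw [m.ee_self, m.tT_zero, map_one]; group, fun y _ c' => ⟨c', by group⟩⟩

end Cfsg.Lib.SPN
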