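import Cfsg.Agent.SPN.K1
import Cfsg.Agent.SPN.K4
import Cfsg.Agent.SPN.KIT
import Cfsg.Agent.SPN.LDa
import Cfsg.Agent.SPN.P1a
import Cfsg.Agent.SPN.P2d
import Cfsg.Agent.SPN.P3k

/-!
# Standard subgroups of type `Sp_{2k}(2ⁿ)`, `k ≥ 3`: short translations normalise `Fx ℓ`
-/

set_option autoImplicit false
set_option linter.unusedSectionVars false

namespace Cfsg.Lib.SPN

open Subgroup Module Cfsg.Lib.Trans Cfsg.Lib.Gold Cfsg.Lib.Class.Form Cfsg.Lib.Class.FAut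
open Cfsg.Lib.UM (tT tE VW RR Fx St QW Cf mp Semi fa Mp cx re Ot kk Mx Fr3)
open Cfsg.Lib.SG2 (Uq Top)
open Cfsg.Lib.Comp (Tw)
open scoped commutatorElement

variable {G F M : Type*} [Group G] [Finite G] [Field F] [Finite F] [AddCommGroup M] [Module F M]
  [FiniteDimensional F M] {B : M →ₗ[F] M →ₗ[F] F} {φ φ' : sIsom B →* G} {t : G} {κ β : F}

namespace P4a

variable {n n' : G} {u x x' y : M} {c c' : F}

theorem comm_eq {H : Type*} [Group H] {a b v w : H} (ha : a * a = 1) (hb : b * b = 1)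
    (hab : Commute a b) (hv : Commute v w) (e : Commute (a * v) (b * w)) : ⁅b, v⁆ = ⁅a, w⁆ := by
  have ia : a⁻¹ = a := inv_eq_of_mul_eq_one_right ha
  have ib : b⁻¹ = b := inv_eq_of_mul_eq_one_right hb
  calc ⁅b, v⁆ = b⁻¹ * a⁻¹ * (a * v * (b * w)) * w⁻¹ * v⁻¹ := by
        conv_lhs => rw [commutatorElement_def, ib]
        conv_rhs => rw [ib]
        group
    _ = a⁻¹ * b⁻¹ * (b * w * (a * v)) * w⁻¹ * v⁻¹ := by rw [e.eq, hab.inv_inv.eq]
    _ = a⁻¹ * w * a * (v * w⁻¹ * v⁻¹) := by group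
    _ = _ := by rw [hv.inv_right.eq, mul_inv_cancel_right, commutatorElement_def, ia]

theorem act (h : H1 φ t) (hx : B u x = 0) (k : KS φ t κ n u x c) {p : M} (hp : B u p = 0) (d : F) :
    n⁻¹ * φ (ee B u p d) * n = φ (ee B u p (d + κ * B x p)) := by
  simpa using (k.inv h hx).2 p hp d

theorem kt0 (h : H1 φ t) (hx : B u x = 0) (k : KS φ t κ n u x c) (hy : y ∈ F ∙ u) :
    n⁻¹ * φ (tT B y 1) * n = φ (tT B y 1) := by
  obtain ⟨a, rfl⟩ := Submodule.mem_span_singleton.1 hy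
  have := act h hx k (p := 0) (map_zero _) (a * a * 1)
  rwa [map_zero, mul_zero, add_zero, h.toMo.ee_zero', ← h.toMo.tT_smul] at this

theorem lin_T (h : Mo B) (e : B x y = 0) : lin (tT B y 1) x = x := by
  rw [h.lin_tT, h.swap e, mul_zero, zero_smul, add_zero]

theorem sq (h : H1 φ t) (n : G) (y : M) :
    n⁻¹ * φ (tT B y 1) * n * (n⁻¹ * φ (tT B y 1) * n) = 1 := by
  rw [show n⁻¹ * φ (tT B y 1) * n * (n⁻¹ * φ (tT B y 1) * n) =
    n⁻¹ * (φ (tT B y 1) * φ (tT B y 1)) * n by group, ← map_mul, h.toMo.tT_sq, map_one]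
  group

theorem dich (h : H1 φ t) (u0 : u ≠ 0) (k : KS φ t κ n u x c) (hx : B u x = 0) (hy : B u y = 0)
    (hxy : B x y = 0) : ∃ v ∈ Qu B u, n⁻¹ * φ (tT B y 1) * n = φ (tT B y 1 * v) ∨
      n⁻¹ * φ (tT B y 1) * n = t * φ (tT B y 1 * v) := by
  have s := sq h n y
  set T := tT B y 1 with hT
  have Tu : lin T u = u := lin_T h.toMo hy
  have h1 : Commute (n⁻¹ * φ T * n) t := by
    have e : φ T * (n * t * n⁻¹) * (φ T)⁻¹ = n * t * n⁻¹ := by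
      rw [k.1, h.toHyp.conj_t, h.toMo.ee_conj _ hx, Tu, lin_T h.toMo hxy]
    calc n⁻¹ * φ T * n * t = n⁻¹ * (φ T * (n * t * n⁻¹) * (φ T)⁻¹) * φ T * n := by group
      _ = _ := by rw [e]; group
  have h2 : (φ T)⁻¹ * (n⁻¹ * φ T * n) ∈ Cs ((Qu B u).map φ) := mem_Cs.2 (by
    rintro _ ⟨q, hq, rfl⟩
    obtain ⟨p, d, hp, rfl⟩ := (h.toMo.mem_Q u0).1 hq
    have hp' : B u (lin T p) = 0 := by
      rw [h.toMo.lin_tT, map_add, map_smul, hp, hy, smul_zero, add_zero]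
    have e1 : B x (lin T p) = B x p := by
      rw [h.toMo.lin_tT, map_add, map_smul, hxy, smul_zero, add_zero]
    have e : n⁻¹ * φ T * n * φ (ee B u p d) * (n⁻¹ * φ T * n)⁻¹ =
        φ T * φ (ee B u p d) * (φ T)⁻¹ := by
      calc _ = n⁻¹ * (φ T * (n * φ (ee B u p d) * n⁻¹) * (φ T)⁻¹) * n := by group
        _ = _ := by
          rw [k.2 p hp, ← map_inv, ← map_mul, ← map_mul, ← map_mul, ← map_mul,
            h.toMo.ee_conj _ hp, h.toMo.ee_conj _ hp, Tu, act h hx k hp', e1, add_assoc,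
            h.toMo.add_self, add_zero]
    calc _ = (φ T)⁻¹ * (φ T * φ (ee B u p d) * (φ T)⁻¹) * (n⁻¹ * φ T * n) := by group
      _ = _ := by rw [← e]; group)
  obtain ⟨v, hv, o, ho, e⟩ := h.cQ u0 ((h.tc T).symm.inv_left.mul_left h1) h2
  have ot : Commute o t := mem_C1.1 (Ot_le ho).1
  have key : ∀ a : G, a ∈ AA φ t ⊤ → Commute o a → a * o * (a * o) = 1 → o = 1 := fun a ha c e => by
    rw [c.mul_mul_mul_comm, mul_eq_one_iff_inv_eq] at e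
    exact Ot_sq ho (h.toHyp.Ot_AA (mul_mem ho ho) (e ▸ inv_mem (mul_mem ha ha)))
  refine ⟨v, hv, ?_⟩
  rcases e with e | e <;> rw [inv_mul_eq_iff_eq_mul] at e
  · rw [← mul_assoc, ← map_mul] at e
    obtain rfl := key _ (h.toHyp.mem_AA.2 ⟨_, mem_top _, Or.inl rfl⟩) (Ot_comm ho _) (e ▸ s)
    exact Or.inl (by rw [e, mul_one])
  · rw [← mul_assoc, ← mul_assoc, ← (h.tc T).eq, mul_assoc t, ← map_mul] at e
    obtain rfl := key _ (h.toHyp.mem_AA.2 ⟨_, mem_top _, Or.inr rfl⟩)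
      (ot.mul_right (Ot_comm ho _)) (e ▸ s)
    exact Or.inr (by rw [e, mul_one])

/-- `n` maps `T_y` into `L`. -/
def Gd (φ : sIsom B →* G) (y : M) (n : G) : Prop := n⁻¹ * φ (tT B y 1) * n ∈ φ.range

theorem Gd_eq_1' : type_of% @Gd.eq_1 := @Gd.eq_1

theorem not_t (h : H1 φ t) (a : sIsom B) : t * φ a ∉ φ.range := fun ⟨b, e⟩ =>
  h.toHyp.t_ne a b e.symm

theorem gd_mul (h : H1 φ t) (u0 : u ≠ 0) (k : KS φ t κ n u x c) (k' : KS φ t κ n' u x' c')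
    (hx : B u x = 0) (hx' : B u x' = 0) (hy : B u y = 0) (hxy : B x y = 0) (hxy' : B x' y = 0) :
    Gd φ y (n * n') ↔ (Gd φ y n ↔ Gd φ y n') := by
  obtain ⟨v, hv, e⟩ := dich h u0 k hx hy hxy
  obtain ⟨v', -, e'⟩ := dich h u0 k' hx' hy hxy'
  obtain ⟨p, d, hp, rfl⟩ := (h.toMo.mem_Q u0).1 hv
  have e1 := act h hx' k' hp d
  have e2 : n'⁻¹ * t * n' = t * φ (ee B u x' c') := by simpa using (k'.inv h hx').1
  have e3 : (n * n')⁻¹ * φ (tT B y 1) * (n * n') = n'⁻¹ * (n⁻¹ * φ (tT B y 1) * n) * n' := by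
    group
  have e4 : n'⁻¹ * φ (tT B y 1 * ee B u p d) * n' =
      n'⁻¹ * φ (tT B y 1) * n' * φ (ee B u p (d + κ * B x' p)) := by rw [← e1, map_mul]; group
  have e5 : n'⁻¹ * (t * φ (tT B y 1 * ee B u p d)) * n' =
      n'⁻¹ * t * n' * (n'⁻¹ * φ (tT B y 1 * ee B u p d) * n') := by group
  have r : ∀ a, φ a ∈ φ.range := fun a => ⟨a, rfl⟩
  unfold Gd
  rw [e3]
  rcases e with e | e <;> rcases e' with e' | e'
  · rw [e, e4, e', ← map_mul]; simp only [r]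
  · rw [e, e4, e', mul_assoc, ← map_mul]; simp only [r, not_t h, true_iff]
  · rw [e, e5, e2, e4, e', mul_assoc, ← map_mul, ← map_mul]; simp only [r, not_t h, iff_true]
  · rw [e, e5, e2, e4, e', show ∀ a b c : sIsom B, t * φ a * (t * φ b * φ c) = φ (a * b * c) from
      fun a b c => by
        rw [map_mul, map_mul, ← mul_assoc, ← mul_assoc, mul_assoc t, ← (h.tc a).eq, ← mul_assoc,
          h.t2, one_mul]]
    simp only [r, not_t h]

theorem gd0 (h : H3 φ t κ) (u0 : u ≠ 0) (k : KS φ t κ n u 0 c) (hy : B u y = 0) : Gd φ y n := by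
  have e := k.1
  rw [h.toMo.ee_zero'] at e
  by_cases hc : c = 0
  · rw [hc, h.toMo.tT_zero, map_one, mul_one] at e
    exact mem_normalizer_conj' (h.cn (mem_C1.2 (Comp.comm_of_conj_eq e))) ⟨_, rfl⟩
  rcases h.cas with ⟨-, k1⟩ | k1
  · exact (k1.nb u u0 (h.toH1.all_T u0 u0 hc one_ne_zero (isConj_iff.2 ⟨n, e⟩))).elim
  obtain ⟨a, ha, e1⟩ := h.toMo.tT_sqrt u c
  have a0 : a ≠ 0 := fun e => hc (by rw [← ha, e, mul_zero])
  have k2 := (LD.of_cq h.toH1 k1 (smul_ne_zero a0 u0)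
    (by rw [Qu, span_smul1 u a0]; exact k.cq h.toH1 u0) (e1 ▸ e)).np
  rw [Pu, span_smul1 u a0] at k2
  exact map_le_range φ _ (mem_normalizer_conj' k2
    (mem_map_of_mem φ (h.toMo.tT_mem_Fx (h.toMo.mem_orth1.2 hy) 1)))

theorem gd_same (h : H3 φ t κ) (u0 : u ≠ 0) (k : KS φ t κ n u x c) (k' : KS φ t κ n' u x c')
    (hx : B u x = 0) (hy : B u y = 0) (hxy : B x y = 0) : Gd φ y n ↔ Gd φ y n' := by
  have k1 := k.mul h.toH1 hx hx k'
  rw [h.toMo.vadd_self] at k1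
  exact (gd_mul h.toH1 u0 k k' hx hx hy hxy hxy).1 (gd0 h u0 k1 hy)

theorem gd_cj (h : H1 φ t) {g : sIsom B} (hg : lin g y = y) :
    Gd φ y (φ g * n * (φ g)⁻¹) ↔ Gd φ y n := by
  have e : φ g * φ (tT B y 1) * (φ g)⁻¹ = φ (tT B y 1) := by
    rw [← map_inv, ← map_mul, ← map_mul, h.toMo.tT_conj, hg]
  unfold Gd
  rw [show (φ g * n * (φ g)⁻¹)⁻¹ * φ (tT B y 1) * (φ g * n * (φ g)⁻¹) =
    φ g * (n⁻¹ * φ (tT B y 1) * n) * (φ g)⁻¹ by conv_lhs => rw [← e]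
                                                group]
  have r : φ g ∈ φ.range := ⟨g, rfl⟩
  rw [mul_mem_cancel_right (inv_mem r), mul_mem_cancel_left r]

theorem gd_const (h : H3 φ t κ) (u0 : u ≠ 0) (k : KS φ t κ n u x c) (k' : KS φ t κ n' u x' c')
    (hx : B u x = 0) (hx' : B u x' = 0) (hy : B u y = 0) (hxy : B x y = 0) (hxy' : B x' y = 0)
    (h1 : x ∉ l2 F u y) (h2 : x' ∉ l2 F u y) : Gd φ y n ↔ Gd φ y n' := by
  obtain ⟨g, hg, e⟩ := h.toMo.trF (h.toMo.ti2 hy) (h.toMo.mem_orth2.2 ⟨hx, h.toMo.swap hxy⟩) h1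
    (h.toMo.mem_orth2.2 ⟨hx', h.toMo.swap hxy'⟩) h2
  have k1 := k.cj h.toH1 hx g
  rw [(mem_Fx2.1 hg).1, e] at k1
  exact (gd_cj h.toH1 (mem_Fx2.1 hg).2).symm.trans (gd_same h u0 k1 k' hx' hy hxy')

theorem gd_sum (h : H3 φ t κ) (u0 : u ≠ 0) (hx : B u x = 0) (hx' : B u x' = 0) (hy : B u y = 0)
    (hxy : B x y = 0) (hxy' : B x' y = 0) (h1 : x ∉ l2 F u y) (h2 : x' ∉ l2 F u y) :
    ∃ n c, KS φ t κ n u (x + x') c ∧ Gd φ y n := by
  obtain ⟨n, k⟩ := h.ks u x u0 hx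
  obtain ⟨n', k'⟩ := h.ks u x' u0 hx'
  exact ⟨_, _, k.mul h.toH1 hx hx' k', (gd_mul h.toH1 u0 k k' hx hx' hy hxy hxy').2
    (gd_const h u0 k k' hx hx' hy hxy hxy' h1 h2)⟩

theorem gd (h : H3 φ t κ) (u0 : u ≠ 0) (k : KS φ t κ n u x c) (hx : B u x = 0) (hy : B u y = 0)
    (hxy : B x y = 0) : Gd φ y n := by
  obtain ⟨p, q, h1, h2, h3, h4, -, h5, h6, h7⟩ := h.toMo.hyp2 hy one_ne_zero
  have h2' := h.toMo.swap h2
  have h4' := h.toMo.swap h4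
  by_cases hl : x ∈ l2 F u y
  · obtain ⟨n', c', k', e⟩ := gd_sum h u0 (x := x + p) (by rw [map_add, hx, h1, add_zero]) h1 hy
      (by rw [map_add, LinearMap.add_apply, hxy, h2', add_zero]) h2'
      (fun e => h5 ((add_mem_cancel_left hl).1 e)) h5
    rw [add_assoc, h.toMo.vadd_self, add_zero] at k'
    exact (gd_same h u0 k k' hx hy hxy).2 e
  · obtain ⟨n', c', k', e⟩ := gd_sum h u0 h1 h3 hy h2' h4' h5 h6
    exact (gd_const h u0 k k' hx (by rw [map_add, h1, h3, add_zero]) hy hxy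
      (by rw [map_add, LinearMap.add_apply, h2', h4', add_zero]) hl h7).2 e

end P4a

open P4a

theorem H3.kt (h : H3 φ t κ) {n : G} {u x y : M} {c : F} (u0 : u ≠ 0) (k : KS φ t κ n u x c)
    (hx : B u x = 0) (hy : B u y = 0) (hxy : B x y = 0) :
    ∃ v ∈ Qu B u, n⁻¹ * φ (tT B y 1) * n = φ (tT B y 1 * v) := by
  obtain ⟨v, hv, e | e⟩ := dich h.toH1 u0 k hx hy hxy
  · exact ⟨v, hv, e⟩
  · have := gd h u0 k hx hy hxy
    rw [Gd, e] at this
    exact (not_t h.toH1 _ this).elim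

theorem H3.kt' (h : H3 φ t κ) {n : G} {u x y : M} {c : F} (k' : P2 B u x) (k : KS φ t κ n u x c)
    (hy : B u y = 0) (hxy : B x y = 0) (d : F) :
    ∃ v ∈ Qu B u ⊓ Fx B (l2 F u x), n⁻¹ * φ (tT B y d) * n = φ (tT B y d * v) := by
  obtain ⟨a, -, e⟩ := h.toMo.tT_sqrt y d
  have hy' : B u (a • y) = 0 := by rw [map_smul, hy, smul_zero]
  have hxy' : B x (a • y) = 0 := by rw [map_smul, hxy, smul_zero]
  rw [e]
  clear e hy hxy
  generalize a • y = y at hy' hxy'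
  have u0 := k'.ne
  have hx := k'.uw
  obtain ⟨v, hv, e⟩ := h.kt u0 k hx hy' hxy'
  obtain ⟨p, c', hp, rfl⟩ := (h.toMo.mem_Q u0).1 hv
  by_cases hl : y ∈ F ∙ u
  · exact ⟨1, one_mem _, by rw [mul_one, kt0 h.toH1 hx k hl]⟩
  have h1 : B y p = 0 := by
    have e1 := sq h.toH1 n y
    rw [e, ← map_mul, ← map_one φ, h.inj.eq_iff] at e1
    have e2 : ⁅tT B y 1, ee B u p c'⁆ = 1 := by
      rw [commutatorElement_def, inv_eq_of_mul_eq_one_right (h.toMo.tT_sq y 1),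
        inv_eq_of_mul_eq_one_right (h.toMo.ee_sq hp c'), mul_assoc, e1]
    rw [h.toMo.comm_T hp hy', h.toMo.ee_eq_one u0 (by rw [map_smul, hy', smul_zero])] at e2
    simpa using e2.2
  have h2 : B x p = 0 := by
    by_cases hl2 : x ∈ l2 F u y
    · obtain ⟨r, s, rfl⟩ := Submodule.mem_span_pair.1 hl2
      simp [hp, h1]
    obtain ⟨w, hw, e'⟩ := h.kt u0 k hx hx (h.alt x)
    have e1 : Commute (tT B y 1 * ee B u p c') (tT B x 1 * w) := by
      rw [← h.toMod.comm, ← e, ← e']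
      simpa using (h.toMod.comm.2 (h.toMo.comm_TT (h.toMo.swap hxy') 1 1)).conj n⁻¹
    have e2 := comm_eq (h.toMo.tT_sq y 1) (h.toMo.tT_sq x 1) (h.toMo.comm_TT (h.toMo.swap hxy') 1 1)
      (h.toMo.comm_Q u0 hv hw) e1
    obtain ⟨q, c'', hq, rfl⟩ := (h.toMo.mem_Q u0).1 hw
    rw [h.toMo.comm_T hp hx, h.toMo.comm_T hq hy', h.toMo.ee_inj u0
      (by rw [map_smul, hx, smul_zero]) (by rw [map_smul, hy', smul_zero])] at e2
    by_contra hn
    have m1 : (1 * B x p) • x ∈ l2 F u y := (add_mem_cancel_right (Submodule.smul_mem _ _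
      (Submodule.subset_span (by simp)))).1 (Submodule.span_mono (by simp) e2.1)
    exact hl2 ((Submodule.smul_mem_iff _ (by rwa [one_mul])).1 m1)
  refine ⟨_, mem_inf.2 ⟨hv, mem_Fx2.2 ⟨UM.mem_Fx1.1 (UM.QW_le_Fx hv), ?_⟩⟩, e⟩
  rw [h.toMo.lin_ee hp, hx, h.toMo.swap h2]
  simp

end Cfsg.Lib.SPN
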