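import Cfsg.Agent.SPN.GEN
import Cfsg.Agent.SPN.K1
import Cfsg.Agent.SPN.K3
import Cfsg.Agent.SPN.K4
import Cfsg.Agent.SPN.P4b

/-!
# Standard subgroups of type `Sp_{2k}(2ⁿ)`: good short translations centralise `Fx ℓ`
-/

set_option autoImplicit false
set_option linter.unusedSectionVars false

namespace Cfsg.Lib.SPN

open Subgroup Module Cfsg.Lib.Trans Cfsg.Lib.Gold Cfsg.Lib.Class.Form Cfsg.Lib.Class.FAut
open Cfsg.Lib.UM (tT tE VW RR Fx St QW Cf mp Semi fa Mp cx re Ot kk Mx Fr3)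
open Cfsg.Lib.SG2 (Uq Top)
open Cfsg.Lib.Comp (Tw)
open scoped commutatorElement

variable {G F M : Type*} [Group G] [Finite G] [Field F] [Finite F] [AddCommGroup M] [Module F M]
  [FiniteDimensional F M] {B : M →ₗ[F] M →ₗ[F] F} {φ φ' : sIsom B →* G} {t : G} {κ β : F}
  {H : M → M → G}

namespace P4c

theorem cE {n : G} {u x y : M} {c : F} (k : KS φ t κ n u x c) (h1 : B u y = 0) (h2 : B x y = 0)
    (d : F) : Commute n (φ (ee B u y d)) :=
  mul_inv_eq_iff_eq_mul.1 (by rw [k.2 y h1, h2, mul_zero, add_zero])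

theorem aux (h : Mo B) {u w : M} (k : B u w = 0) {n : G} (h1 : KS φ t κ n u w 0)
    (h2 : KS φ t κ n w u 0) {v : sIsom B} (hv : v ∈ VW B (l2 F u w)) : Commute n (φ v) := by
  obtain ⟨c, d, l, rfl⟩ := (h.mem_V2 k).1 hv
  rw [map_mul, map_mul, ← h.ee_zero' u, ← h.ee_zero' w, ← h.ee_zero]
  exact ((cE h1 (map_zero _) (map_zero _) _).mul_right (cE h2 (map_zero _) (map_zero _) _)).mul_right
    (cE h1 (by simp [k]) (by simp [h.alt]) _)

theorem ex (h : H3 φ t κ) {u w y : M} (k : P2 B u w) {n : G} (h1 : KS φ t κ n u w 0)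
    (h2 : KS φ t κ n w u 0) (a : B u y = 0) (b : B w y = 0) :
    ∃ s : F, n⁻¹ * φ (tT B y 1) * n = φ (tT B y 1 * tE B u (s • w)) := by
  obtain ⟨v, hv, e⟩ := h.kt k.ne h1 k.uw a b
  obtain ⟨v', hv', e'⟩ := h.kt k.ne' h2 (h.toMo.swap k.uw) b a
  obtain rfl : v = v' := mul_left_cancel (h.inj (e.symm.trans e'))
  obtain ⟨s, rfl⟩ := (h.toMo.Q_inf_Q k).1 ⟨hv, hv'⟩
  exact ⟨s, e⟩

end P4c

open P4c in
theorem H3.cF (h : H3 φ t κ) {u w : M} (k : P2 B u w) {n : G} (h1 : KS φ t κ n u w 0)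
    (h2 : KS φ t κ n w u 0) : n ∈ Cs ((Fx B (l2 F u w)).map φ) := by
  have m := h.toMo
  have H1 := h.toH1
  suffices e : Fx B (l2 F u w) ≤ (C1 n).comap φ from mem_Cs.2 (by
    rintro _ ⟨g, hg, rfl⟩; exact mem_C1.1 (e hg))
  refine m.gen_Fx (m.ti2 k.uw) fun y hy => mem_C1.2 (Commute.symm ?_)
  by_cases y0 : y ∈ l2 F u w
  · exact aux m k.uw h1 h2 (m.tT_mem y0 1)
  obtain ⟨uy, wy⟩ := m.mem_orth2.1 hy
  have p3 : P3 B u w y := P3.iff.2 ⟨k, uy, wy, y0⟩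
  obtain ⟨-, q, -, -⟩ := p3.p2 m
  obtain ⟨s, e⟩ := ex h k h1 h2 uy wy
  obtain ⟨n2, a1, a2⟩ := h.both q
  obtain ⟨g, g1, g2, g3⟩ := m.tr3 p3 (u' := u) (w' := w + y) (x' := y) (by
    simpa using (((p3.swap m).add m 0 1).swap m))
  have us : B u (s • w) = 0 := by simp [k.uw]
  have uwy : B u (w + y) = 0 := by simp [k.uw, uy]
  have k3 := h1.cj H1 k.uw g
  have k4 := h1.mul H1 k.uw uy a1
  rw [g1, g2] at k3
  rw [wy, mul_zero, add_zero, add_zero] at k4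
  have e3 : (φ g * n * (φ g)⁻¹)⁻¹ * φ (tT B y 1) * (φ g * n * (φ g)⁻¹) =
      φ (tT B y 1 * tE B u (s • (w + y))) := by
    have e1 := m.tT_conj g y 1
    have e2 := m.tE_conj g us
    rw [g3] at e1
    rw [map_smul, g1, g2] at e2
    rw [← e2, ← e1, conj_mul, map_mul, map_mul, map_mul, map_mul, ← e, map_inv]
    group
  have c2 : Commute n2 (φ (tT B y 1 * tE B u (s • w))) := by
    rw [map_mul, ← m.ee_zero]
    exact (aux m uy a1 a2 (m.tT_mem (Submodule.subset_span (by simp)) 1)).mul_right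
      (cE a1 us (by simp [m.swap wy]) _)
  obtain ⟨v, hv, e4⟩ : ∃ v ∈ Qu B u,
      tT B y 1 * tE B u (s • (w + y)) = v⁻¹ * (tT B y 1 * tE B u (s • w)) * v := by
    obtain ⟨v, hv, o, ho, e4⟩ := k4.uniq H1 k.ne uwy k3
    refine ⟨v, hv, h.inj ?_⟩
    have : ∀ z : G, (∀ a, Commute z (φ a)) → (n * n2 * z * φ v * o)⁻¹ * φ (tT B y 1) *
        (n * n2 * z * φ v * o) = φ (v⁻¹ * (tT B y 1 * tE B u (s • w)) * v) := fun z hz =>
      calc _ = o⁻¹ * ((φ v)⁻¹ * (z⁻¹ * (n2⁻¹ * (n⁻¹ * φ (tT B y 1) * n) * n2) * z) * φ v) * o := by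
            group
        _ = _ := by
          rw [e, mul_assoc n2⁻¹, ← c2.eq, inv_mul_cancel_left, mul_assoc z⁻¹, ← (hz _).eq,
            inv_mul_cancel_left, ← map_inv, ← map_mul, ← map_mul, mul_assoc, ← (Ot_comm ho _).eq,
            inv_mul_cancel_left]
    rw [← e3]
    rcases e4 with e4 | e4 <;> rw [e4]
    exacts [by simpa only [mul_one] using this 1 fun _ => .one_left _, this t h.tc]
  obtain ⟨x, c, ux, rfl⟩ := (m.mem_Q k.ne).1 hv
  have e5 := m.comm_T ux uy c 1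
  have i1 := inv_eq_of_mul_eq_one_right (m.ee_sq ux c)
  have i2 := inv_eq_of_mul_eq_one_right (m.tT_sq y 1)
  rw [commutatorElement_def, i1, i2, one_mul] at e5
  rw [mul_assoc, mul_assoc, ← (m.comm_Q k.ne hv (m.tE_mem_Q us)).eq, i1, ← eq_inv_mul_iff_mul_eq, i2,
    ← mul_assoc, ← mul_assoc, ← mul_assoc, e5, ← m.ee_zero, ← m.ee_zero,
    m.ee_mul (by simp [uy]) us, m.ee_inj k.ne (by simp [uy, k.uw]) (by simp [uy, k.uw])] at e4
  have b0 : B y x = 0 := by simpa [m.swap wy] using e4.2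
  have s0 : s = 0 := by_contra fun s0 => q.not_mem (by
    have := e4.1
    rw [b0, zero_smul, zero_add, smul_add, add_right_comm, m.vadd_self, zero_add] at this
    exact (Submodule.smul_mem_iff _ s0).1 this)
  rw [s0, zero_smul, m.tE_zero, mul_one, mul_assoc, inv_mul_eq_iff_eq_mul] at e
  exact e.symm

end Cfsg.Lib.SPN
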