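import Cfsg.Agent.SPN.A1
import Cfsg.Agent.SPN.AC2
import Cfsg.Agent.SPN.K1
import Cfsg.Agent.SPN.K2
import Cfsg.Agent.SPN.K3
import Cfsg.Agent.SPN.K4
import Cfsg.Agent.SPN.KIT
import Cfsg.Agent.SPN.P1a
import Cfsg.Agent.SPN.P5c

/-!
# Standard subgroups of type `Sp_{2k}(2ⁿ)`: the action of `C(t)` on the new root elements
-/

set_option autoImplicit false
set_option linter.unusedSectionVars false

namespace Cfsg.Lib.SPN

open Subgroup Module Cfsg.Lib.Trans Cfsg.Lib.Gold Cfsg.Lib.Class.Form Cfsg.Lib.Class.FAut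
open Cfsg.Lib.UM (tT tE VW RR Fx St QW Cf mp Semi fa Mp cx re Ot kk Mx Fr3)
open Cfsg.Lib.SG2 (Uq Top)
open Cfsg.Lib.Comp (Tw)
open scoped commutatorElement

variable {G F M : Type*} [Group G] [Finite G] [Field F] [Finite F] [AddCommGroup M] [Module F M]
  [FiniteDimensional F M] {B : M →ₗ[F] M →ₗ[F] F} {φ φ' : sIsom B →* G} {t : G}
  {κ β : F} {H : M → M → G}

namespace P7c

theorem cs {A : Subgroup (sIsom B)} {a : G} (k : ∀ g ∈ A, φ g * a * (φ g)⁻¹ = a) :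
    a ∈ Cs (A.map φ) := mem_Cs.2 (by
  rintro _ ⟨g, hg, rfl⟩
  exact mul_inv_eq_iff_eq_mul.1 (k g hg))

theorem ct {a b y : G} (h1 : a * t * a⁻¹ = y) (h2 : b * t * b⁻¹ = y) : Commute (a⁻¹ * b) t := by
  refine mul_inv_eq_iff_eq_mul.1 ?_
  calc a⁻¹ * b * t * (a⁻¹ * b)⁻¹ = a⁻¹ * (b * t * b⁻¹) * a := by group
    _ = t := by rw [h2, ← h1]; group

theorem uni (h : TH0 φ t H κ β) {K : M → M → G}
    (h1 : ∀ g u w, φ g * K u w * (φ g)⁻¹ = K (lin g u) (lin g w))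
    (h2 : ∀ u w, B u w = 0 → K u w * t * (K u w)⁻¹ = t * φ (tE B u w))
    (h3 : ∀ u w, K u w * K u w = 1)
    (h4 : ∀ u w x, O3 B u w x → K u (w + x) = K u w * K u x) :
    ∃ s : F, ∀ u w, P2 B u w → K u w = H u w * φ (tE B u (s • w)) := by
  have m := h.toMo
  obtain ⟨u, u0⟩ := m.exists_ne
  obtain ⟨w, k⟩ := m.ext2 u0
  obtain ⟨x, k3⟩ := m.ext3 k
  have ti := m.ti2 k.uw
  have c1 : H u w ∈ Cs ((Fx B (l2 F u w)).map φ) := cs fun g hg => by
    rw [h.eqv, (mem_Fx2.1 hg).1, (mem_Fx2.1 hg).2]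
  have c2 : K u w ∈ Cs ((Fx B (l2 F u w)).map φ) := cs fun g hg => by
    rw [h1, (mem_Fx2.1 hg).1, (mem_Fx2.1 hg).2]
  obtain ⟨v, hv, o, ho, e⟩ := h.toH1.cF ti (ct (h.ht _ _ k.uw) (h2 _ _ k.uw))
    (mul_mem (inv_mem c1) c2)
  have e1 : K u w = H u w * φ v := by
    refine h.toH1.ratio (x := v) (h.cO u w) ho (h.sq _ _) (h3 _ _) (h.ht _ _ k.uw) ?_ ?_ ?_
    · rw [← mem_Cs.1 c1 _ ⟨v, m.VW_le_Fx (fun a ha b hb => ti b hb a ha) hv, rfl⟩,
        mul_inv_cancel_right]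
    · rw [mul_assoc, m.sq_VW ti hv, mul_one]; exact m.tE_ne k
    · simpa only [inv_mul_eq_iff_eq_mul, ← mul_assoc] using e
  obtain ⟨a, b, s, rfl⟩ := (m.mem_V2 k.uw).1 hv
  have e2 : ∀ u w, P2 B u w → K u w = H u w * φ (tT B u a * tT B w b * tE B u (s • w)) := by
    intro u' w' k'
    obtain ⟨g, rfl, rfl⟩ := m.tr2 k k'
    rw [← map_smul, ← h1, ← h.eqv, e1, ← m.tE_conj g (by simp [k.uw]), ← m.tT_conj, ← m.tT_conj]
    simp only [map_mul, map_inv]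
    group
  obtain ⟨-, p1, -, p2⟩ := k3.p2 m
  have uw := k3.uw
  have ux := k3.ux
  have wx := k3.wx
  have wu := m.swap uw
  have xu := m.swap ux
  have xw := m.swap wx
  have s1 : B u (s • w) = 0 := by simp [uw]
  have s2 : B u (s • x) = 0 := by simp [ux]
  have s3 : B u (s • w + s • x) = 0 := by simp [uw, ux]
  have c3 := h.eqv (tT B u a * tT B w b * tE B u (s • w)) u x
  rw [show lin (tT B u a * tT B w b * tE B u (s • w)) u = u by
      simp [m.lin_tT, m.lin_tE s1, m.alt, wu],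
    show lin (tT B u a * tT B w b * tE B u (s • w)) x = x by
      simp [m.lin_tT, m.lin_tE s1, ux, wx], mul_inv_eq_iff_eq_mul] at c3
  have e3 := h4 u w x k3.toO3
  rw [e2 _ _ p2, e2 _ _ p1, e1, h.add2 _ _ _ k3.toO3, mul_assoc, mul_assoc (H u w),
    ← mul_assoc (φ _), c3, mul_assoc (H u x), mul_right_inj, mul_right_inj, ← map_mul] at e3
  replace e3 := h.inj e3
  obtain ⟨hw, hx⟩ : w ∉ F ∙ u ∧ x ∉ l2 F u w := ⟨k.not_mem, (P3.iff.1 k3).2.2.2⟩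
  obtain ⟨y, y1, y2, y3⟩ := m.dual3 u0 hw hx 1 0 0
  obtain ⟨z, z1, z2, z3⟩ := m.dual3 u0 hw hx 0 1 0
  have e4 := congrArg (fun g => lin g y) e3
  have e5 := congrArg (fun g => lin g z) e3
  simp [m.lin_tT, m.lin_tE s1, m.lin_tE s2, m.lin_tE s3, m.alt, uw, ux, wx, wu, xu, xw, y1, y2, y3,
    z1, z2, z3] at e4 e5
  have a0 : a = 0 := (smul_eq_zero.1 (show a • u = 0 by
    linear_combination (norm := module) -e4)).resolve_right u0
  have b0 : b = 0 := e5.resolve_right p1.ne'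
  refine ⟨s, fun u w k => ?_⟩
  rw [e2 _ _ k, a0, b0, m.tT_zero, m.tT_zero, one_mul, one_mul]

theorem uniD {D : M → G} (h : TD0 φ t H D κ β) {K : M → G}
    (h1 : ∀ g u, φ g * K u * (φ g)⁻¹ = K (lin g u))
    (h2 : ∀ u, K u * t * (K u)⁻¹ = t * φ (tT B u 1))
    (h3 : ∀ u, K u * K u = φ (tT B u κ)) :
    ∃ s : F, ∀ u, u ≠ 0 → K u = D u * φ (tT B u s) := by
  have m := h.toMo
  obtain ⟨u, u0⟩ := m.exists_ne
  have c1 : D u ∈ Cs ((Pu B u).map φ) := cs fun g hg => by rw [h.deqv, UM.mem_Fx1.1 hg]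
  have c2 : K u ∈ Cs ((Pu B u).map φ) := cs fun g hg => by rw [h1, UM.mem_Fx1.1 hg]
  obtain ⟨v, hv, o, ho, e⟩ := h.toH1.cF (m.ti1 u) (ct (h.dt u) (h2 u)) (mul_mem (inv_mem c1) c2)
  obtain ⟨s, rfl⟩ := m.mem_RR.1 hv
  have c3 : Commute (D u) (φ (tT B u s)) :=
    (mem_Cs.1 c1 _ ⟨_, UM.mem_Fx1.2 (by simp [m.lin_tT, m.alt]), rfl⟩).symm
  have c4 : Commute (D u) o := (mem_Cs.1 (h.dO u) _ ho).symm
  have c5 : Commute t o := (mem_Cs.1 t_mem_Cs_Ot _ ho).symm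
  have q : φ (tT B u s) * o * (φ (tT B u s) * o) = o * o := by
    rw [(Ot_comm ho _).mul_mul_mul_comm, ← map_mul, m.tT_sq, map_one, one_mul]
  have e1 : K u = D u * φ (tT B u s) := by
    have e3 := h3 u
    rcases e with e | e <;> rw [inv_mul_eq_iff_eq_mul] at e
    · rw [e, (c3.mul_right c4).symm.mul_mul_mul_comm, q, h.dsq, mul_eq_left] at e3
      rw [e, Ot_sq ho e3, mul_one]
    · exfalso
      have e4 : D u * t * (D u * t) = φ (tT B u κ) * φ (tT B u 1) := by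
        calc D u * t * (D u * t) = D u * t * (D u)⁻¹ * (D u * D u) * t := by group
          _ = t * φ (tT B u 1 * tT B u κ) * t := by rw [h.dt, h.dsq, map_mul]; group
          _ = _ := by
            rw [(h.tc _).eq, mul_assoc, h.t2, mul_one, ← map_mul, (m.comm_TT (m.alt u) _ _).eq]
      rw [e, mul_assoc t, ← mul_assoc (D u), ((c3.mul_right c4).mul_left
        ((h.tc _).mul_right c5)).symm.mul_mul_mul_comm, q, e4, mul_assoc, mul_eq_left] at e3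
      have e5 : o * o = 1 := h.toHyp.Ot_AA (mul_mem ho ho) (h.toHyp.mem_AA.2
        ⟨(tT B u 1)⁻¹, mem_top _, Or.inl (by rw [map_inv]; exact eq_inv_of_mul_eq_one_right e3)⟩)
      rw [e5, mul_one] at e3
      exact m.tT_ne u0 one_ne_zero (h.inj (e3.trans (map_one φ).symm))
  refine ⟨s, fun u' u0' => ?_⟩
  obtain ⟨g, rfl⟩ := m.tr1 u0 u0'
  rw [← h1, ← h.deqv, e1, ← m.tT_conj]
  simp only [map_mul, map_inv]
  group

theorem cg {c : G} {α : MulAut (sIsom B)} (k : Mp φ φ c α) (g : sIsom B) (a : G) :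
    φ g * (c * a * c⁻¹) * (φ g)⁻¹ = c * (φ (α⁻¹ g) * a * (φ (α⁻¹ g))⁻¹) * c⁻¹ := by
  rw [← k.inv g]; group

theorem cgt {c a : G} (hc : Commute c t) :
    c * a * c⁻¹ * t * (c * a * c⁻¹)⁻¹ = c * (a * t * a⁻¹) * c⁻¹ := by
  calc c * a * c⁻¹ * t * (c * a * c⁻¹)⁻¹ = c * a * (c⁻¹ * t * c) * a⁻¹ * c⁻¹ := by group
    _ = _ := by rw [hc.inv_left.eq]; group

theorem cgt' {c a : G} (hc : Commute c t) : c * (t * a) * c⁻¹ = t * (c * a * c⁻¹) := by
  rw [← mul_assoc, hc.eq]; group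

theorem kap (h : TH0 φ t H κ β) (τ : F ≃+* F) : τ κ = κ := by
  rcases h.kap with e | e <;> simp [e]

end P7c

open P7c

theorem TH0.th (h : TH0 φ t H κ β) : TH φ t H κ β := by
  refine ⟨h, fun c hc α Γ τ hm k => ?_⟩
  have m := h.toMo
  have b0 : ∀ {u w}, B u w = 0 → B (Γ.symm u) (Γ.symm w) = 0 := fun e => by
    rw [k.inv.form, e, map_zero]
  obtain ⟨s, hs⟩ := uni h (K := fun u w => c * H (Γ.symm u) (Γ.symm w) * c⁻¹)
    (fun g u w => by rw [cg hm, h.eqv, k.inv.conj, k.inv.conj])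
    (fun u w e => by
      rw [cgt hc, h.ht _ _ (b0 e), cgt' hc, hm, m.semi_tE k (b0 e), Γ.apply_symm_apply,
        Γ.apply_symm_apply])
    (fun u w => by rw [conj_mul, h.sq, mul_one, mul_inv_cancel])
    (fun u w x e => by rw [map_add, h.add2 _ _ _ ⟨b0 e.uw, b0 e.ux, b0 e.wx⟩, conj_mul])
  refine ⟨s, fun u w e => ?_⟩
  by_cases k2 : P2 B u w
  · simpa using hs _ _ ((semi_P2 k).2 k2)
  by_cases u0 : u = 0
  · have z : ∀ w, H 0 w = 1 := fun w => by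
      simpa using h.add1 0 0 w ⟨by simp, by simp, by simp⟩
    simp [u0, z, m.tE_zero']
  obtain ⟨a, rfl⟩ := Submodule.mem_span_singleton.1
    (by_contra fun n => k2 (P2.iff.2 ⟨e, u0, n⟩) : w ∈ F ∙ u)
  rw [k.smul, smul_smul, m.tE_self, map_one, mul_one, h.self, h.self, hm, m.semi_tT k, map_mul,
    P7c.kap h]

theorem TD0.td {D : M → G} (h : TD0 φ t H D κ β) : TD φ t H D κ β := by
  refine ⟨h, fun c hc α Γ τ hm k => ?_⟩
  have m := h.toMo
  obtain ⟨s, hs⟩ := uniD h (K := fun u => c * D (Γ.symm u) * c⁻¹)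
    (fun g u => by rw [cg hm, h.deqv, k.inv.conj])
    (fun u => by rw [cgt hc, h.dt, cgt' hc, hm, m.semi_tT k, Γ.apply_symm_apply, map_one])
    (fun u => by
      rw [conj_mul, h.dsq, hm, m.semi_tT k, Γ.apply_symm_apply, P7c.kap h.toTH0])
  refine ⟨s, fun u => ?_⟩
  by_cases u0 : u = 0
  · simp [u0, h.d0, m.tT_zero']
  · simpa using hs (Γ u) (by simpa using u0)

end Cfsg.Lib.SPN
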