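import Cfsg.Agent.SPN.P1c
import Cfsg.Agent.SPN.P2d
import Cfsg.Agent.SPN.P3b
import Cfsg.Agent.SPN.LDa
import Cfsg.Agent.SPN.II
import Cfsg.Agent.SPN.P3n
import Cfsg.Agent.SPN.P3a
import Cfsg.Agent.SPN.P3c
import Cfsg.Agent.SPN.P4d
import Cfsg.Agent.SPN.P5a
import Cfsg.Agent.SPN.P5b
import Cfsg.Agent.SPN.P5c
import Cfsg.Agent.SPN.P5d
import Cfsg.Agent.SPN.P6a
import Cfsg.Agent.SPN.P6b
import Cfsg.Agent.SPN.P6c
import Cfsg.Agent.SPN.P7a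
import Cfsg.Agent.SPN.P7b
import Cfsg.Agent.SPN.P7c
import Cfsg.Agent.SPN.P7d
import Cfsg.Agent.SPN.P8a
import Cfsg.Agent.SPN.P8c
import Cfsg.Agent.SPN.P8d
import Cfsg.Agent.SPN.P8e
import Cfsg.Agent.SPO.Main

/-!
# Standard subgroups of type `Sp_{2k}(2ⁿ)`, `k ≥ 3`: the four types
-/

set_option autoImplicit false
set_option linter.unusedSectionVars false

namespace Cfsg.Lib.SPN

open Subgroup Module Cfsg.Lib.Trans Cfsg.Lib.Gold Cfsg.Lib.Class.Form Cfsg.Lib.Class.FAut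
open Cfsg.Lib.UM (tT tE kk)
open Cfsg.Lib.SG2 (Top)

variable {G F M : Type*} [Group G] [Finite G] [Field F] [Finite F] [AddCommGroup M] [Module F M]
  [FiniteDimensional F M] {B : M →ₗ[F] M →ₗ[F] F} {φ : sIsom B →* G} {t : G}

theorem H2.types (h : H2 φ t) : (∃ H β, T1 φ t H β) ∨ (∃ H D β, T3 φ t H D β) ∨
    ∃ H D β, T4 φ t H D β := by
  obtain ⟨κ, h3⟩ := h.h3 fun u x u0 hx => (h.or u0).elim (fun k => h.kk u0 k hx) fun k => k x hx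
  obtain ⟨H0, a, b, c, k1, k2, k3⟩ := h3.h4.fam
  obtain ⟨H, h6⟩ := (h3.h5 k1 k2 k3).h6
  have h7 := h6.ta.ta2
  have h8 := h7.ta3 fun _ _ _ => h7.xc
  obtain ⟨β, h9⟩ := h8.th0
  rcases h8.kap with rfl | rfl
  · obtain ⟨D, hD⟩ := h8.td4 h9.th
    exact Or.inr (Or.inr ⟨H, D, β, hD.td⟩)
  obtain ⟨b', hb⟩ := h8.mu
  obtain rfl := h9.b_eq hb
  rcases h8.cas with ⟨-, k⟩ | k
  · exact Or.inl ⟨H, b', h9.th, hb, k.nb, k.nc⟩
  obtain ⟨u, u0⟩ := h.toMo.exists_ne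
  obtain ⟨d, hd⟩ := k u u0
  obtain ⟨d', hd'⟩ := h8.gd hb u0 hd
  obtain ⟨D, ω, e1, e2, e3⟩ := h9.gfam u0 hd'
  obtain ⟨D', hD⟩ := h9.th.td3 hb e1 e2 e3
  exact Or.inr (Or.inl ⟨H, D', b', hD.td⟩)

theorem Hyp.types (h : Hyp φ t) {X : Subgroup G} (hX : Top X t) (ht : t ∉ Cs X) :
    (∃ H β, T1 φ t H β) ∨ (∃ H D β, T3 φ t H D β) ∨ (∃ H D β, T4 φ t H D β) ∨
      OO X F (kk F M) := by
  have hN := hX.normal
  have hS := hX.simple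
  have hq : IsQuasisimple X :=
    isQuasisimple_of_forall_normal (Comp.commutator_top_of_perfect hX.perf) fun N hN =>
      hN.eq_bot_or_eq_top.symm.imp id fun e : N = ⊥ => e.le.trans bot_le
  obtain ⟨g, -, g1, g2⟩ := Comp.zstar_in hq h.t2 (cj_eq_self_iff.1 (cj_eq_of_normal t X)) ht
  obtain ⟨W, hW, d, hd, d1, e⟩ := h.inner g1 g2
  have h1 := h.h1 hW hd d1 e
  obtain ⟨u, u0, v, hv, v1, e'⟩ := h.par hW hd d1 e
  rcases h1.pat u0 hv v1 e' with ⟨na, nc, k⟩ | ⟨ha, k⟩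
  · exact Or.inr (Or.inr (Or.inr
      ((h1.tb na nc fun w w0 => h1.ld w0 (k w w0)).ii.final
        (by rwa [h.toMo.tT_zero', map_one, mul_one]) h.toMo.rank_eq)))
  · have h2 : H2 φ t := ⟨h1, ha, k.imp_right fun k w w0 => h1.ld w0 (k w w0)⟩
    exact h2.types.imp_right fun k => k.imp_right Or.inl

end Cfsg.Lib.SPN
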